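import Cfsg.Agent.H162.GaussSL

/-!
Finite facts over the field with two elements (S2443, S4171: `E₆(2)`, `F₄(2)`).
-/

set_option autoImplicit false
set_option maxRecDepth 10000

namespace Cfsg.Agent.H584.Ore.Tab

open Matrix Cfsg.Agent.H162.GaussSL

/-- the `3 × 3` matrix with the code `n` -/
def dc (n : ℕ) : Matrix (Fin 3) (Fin 3) (ZMod 2) := Matrix.of fun i j => ((n / 2 ^ (3 * i.val + j.val) : ℕ) : ZMod 2)

/-- a symmetric element of order 7 -/
def X0 : Matrix (Fin 3) (Fin 3) (ZMod 2) := !![0, 0, 1; 0, 1, 1; 1, 1, 0]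

/-- its inverse -/
def X0i : Matrix (Fin 3) (Fin 3) (ZMod 2) := !![1, 1, 1; 1, 1, 0; 1, 0, 0]

def lo (a b c : ZMod 2) : Matrix (Fin 3) (Fin 3) (ZMod 2) := !![1, 0, 0; a, 1, 0; b, c, 1]

def up (a b c : ZMod 2) : Matrix (Fin 3) (Fin 3) (ZMod 2) := !![1, a, b; 0, 1, c; 0, 0, 1]

def idx (a b c a' b' c' : ZMod 2) : ℕ :=
  ((((a.val * 2 + b.val) * 2 + c.val) * 2 + a'.val) * 2 + b'.val) * 2 + c'.val

def tab1 : List (ℕ × ℕ × ℕ × ℕ × Bool) := [
  (84, 84, 84, 84, true), (340, 85, 468, 87, false), (84, 84, 244, 95, false), (212, 86, 156, 102, false), (340,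
  85, 116, 92, false), (340, 85, 412, 111, true), (212, 86, 372, 93, false), (468, 87, 372, 93, true), (172,
  99, 188, 103, false), (84, 84, 156, 102, false), (84, 84, 212, 86, true), (340, 85, 396, 106, false), (84,
  84, 372, 93, false), (500, 94, 236, 123, false), (212, 86, 84, 84, true), (412, 111, 188, 103, false), (84,
  84, 500, 94, false), (84, 84, 372, 93, true), (204, 114, 156, 102, false), (236, 123, 188, 103, false), (84,
  84, 468, 87, true), (116, 92, 116, 92, false), (140, 98, 92, 116, false), (84, 84, 380, 117, false), (140,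
  98, 156, 102, false), (116, 92, 188, 103, false), (340, 85, 372, 93, false), (340, 85, 460, 122, true),
  (340, 85, 212, 86, true), (340, 85, 156, 102, false), (468, 87, 244, 95, false), (348, 125, 348, 125,
  false), (140, 98, 444, 110, false), (84, 84, 212, 86, false), (84, 84, 116, 92, true), (116, 92, 84, 84,
  true), (212, 86, 492, 115, false), (372, 93, 172, 99, false), (84, 84, 204, 114, false), (412, 111, 348,
  125, false), (140, 98, 428, 107, true), (372, 93, 444, 110, false), (396, 106, 396, 106, false), (116, 92,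
  92, 116, false), (468, 87, 236, 123, false), (244, 95, 244, 95, false), (212, 86, 444, 110, false), (244,
  95, 84, 84, true), (204, 114, 124, 124, false), (340, 85, 116, 92, true), (340, 85, 212, 86, false), (372,
  93, 244, 95, false), (84, 84, 172, 99, false), (340, 85, 204, 114, false), (84, 84, 236, 123, true), (124,
  124, 124, 124, false), (204, 114, 236, 123, true), (340, 85, 412, 111, false), (84, 84, 124, 124, false),
  (428, 107, 428, 107, false), (340, 85, 428, 107, false), (340, 85, 140, 98, true), (460, 122, 460, 122,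
  false), (84, 84, 492, 115, false)]

def tab2 : List (ℕ × ℕ × ℕ) := [
  (84, 84, 0), (84, 84, 32), (84, 84, 16), (84, 84, 48), (98, 140, 16), (226, 141, 20), (102, 156, 16), (98,
  140, 20), (84, 84, 4), (116, 92, 36), (340, 85, 20), (372, 93, 52), (340, 85, 4), (116, 92, 52), (84, 84,
  20), (372, 93, 36), (84, 84, 2), (116, 92, 34), (340, 85, 18), (372, 93, 50), (244, 95, 27), (212, 86, 59),
  (500, 94, 11), (468, 87, 43), (84, 84, 6), (116, 92, 38), (340, 85, 22), (372, 93, 54), (116, 92, 27), (340,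
  85, 43), (372, 93, 11), (84, 84, 59), (98, 140, 2), (98, 140, 6), (370, 207, 27), (114, 204, 27), (212, 86,
  9), (212, 86, 57), (212, 86, 41), (212, 86, 25), (468, 87, 61), (244, 95, 13), (212, 86, 45), (500, 94, 29),
  (212, 86, 13), (244, 95, 45), (468, 87, 29), (500, 94, 61), (116, 92, 2), (84, 84, 34), (372, 93, 18), (340,
  85, 50), (212, 86, 11), (244, 95, 43), (468, 87, 27), (500, 94, 59), (372, 93, 47), (340, 85, 15), (116, 92,
  63), (84, 84, 31), (212, 86, 15), (244, 95, 47), (468, 87, 31), (500, 94, 63)]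

theorem chk1 : ∀ a b c a' b' c' : ZMod 2,
    dc (tab1.getD (idx a b c a' b' c') (0, 0, 0, 0, false)).1 *
      dc (tab1.getD (idx a b c a' b' c') (0, 0, 0, 0, false)).2.1 = 1 ∧
    dc (tab1.getD (idx a b c a' b' c') (0, 0, 0, 0, false)).2.2.1 *
      dc (tab1.getD (idx a b c a' b' c') (0, 0, 0, 0, false)).2.2.2.1 = 1 ∧
    lo a b c * up a' b' c' =
      (dc (tab1.getD (idx a b c a' b' c') (0, 0, 0, 0, false)).1 * X0 *
        dc (tab1.getD (idx a b c a' b' c') (0, 0, 0, 0, false)).2.1) *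
      (dc (tab1.getD (idx a b c a' b' c') (0, 0, 0, 0, false)).2.2.1 *
        (if (tab1.getD (idx a b c a' b' c') (0, 0, 0, 0, false)).2.2.2.2 then X0i else X0) *
        dc (tab1.getD (idx a b c a' b' c') (0, 0, 0, 0, false)).2.2.2.1) := by
  decide +kernel

/-- the bit of a code -/
def bt (n k : ℕ) : ZMod 2 := ((n / 2 ^ k : ℕ) : ZMod 2)

theorem chk2 : ∀ a b c a' b' c' : ZMod 2,
    dc (tab2.getD (idx a b c a' b' c') (0, 0, 0)).1 * dc (tab2.getD (idx a b c a' b' c') (0, 0, 0)).2.1 = 1 ∧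
    dc (tab2.getD (idx a b c a' b' c') (0, 0, 0)).1 * (lo a b c * up a' b' c') *
      dc (tab2.getD (idx a b c a' b' c') (0, 0, 0)).2.1 =
      lo (bt (tab2.getD (idx a b c a' b' c') (0, 0, 0)).2.2 5) (bt (tab2.getD (idx a b c a' b' c') (0, 0, 0)).2.2 4)
        (bt (tab2.getD (idx a b c a' b' c') (0, 0, 0)).2.2 3) *
      up (bt (tab2.getD (idx a b c a' b' c') (0, 0, 0)).2.2 2) (bt (tab2.getD (idx a b c a' b' c') (0, 0, 0)).2.2 1)
        (bt (tab2.getD (idx a b c a' b' c') (0, 0, 0)).2.2 0) ∧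
    bt (tab2.getD (idx a b c a' b' c') (0, 0, 0)).2.2 3 = bt (tab2.getD (idx a b c a' b' c') (0, 0, 0)).2.2 0 := by
  decide +kernel

theorem X0_mul : X0 * X0i = 1 := by decide +kernel

theorem one_of_ne {x : ZMod 2} (h : x ≠ 0) : x = 1 := by
  revert x
  decide

theorem exists_S {n : ℕ} {A B : Matrix (Fin n) (Fin n) (ZMod 2)} (h : A * B = 1) :
    ∃ g : SpecialLinearGroup (Fin n) (ZMod 2), g.1 = A ∧ (g⁻¹).1 = B := by
  have h1 : A.det = 1 := by
    refine one_of_ne fun h0 => ?_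
    have h2 := congrArg Matrix.det h
    rw [det_mul, h0, zero_mul, det_one] at h2
    exact zero_ne_one h2
  let g : SpecialLinearGroup (Fin n) (ZMod 2) := ⟨A, h1⟩
  refine ⟨g, rfl, ?_⟩
  have h2 : (g⁻¹).1 * A = 1 := congrArg Subtype.val (inv_mul_cancel g)
  calc (g⁻¹).1 = (g⁻¹).1 * (A * B) := by rw [h, Matrix.mul_one]
    _ = B := by rw [← Matrix.mul_assoc, h2, Matrix.one_mul]

/-- the element of order 7 in `SL₃(2)` -/
def XX0 : SpecialLinearGroup (Fin 3) (ZMod 2) := ⟨X0, by decide +kernel⟩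

theorem XX0_inv : (XX0⁻¹).1 = X0i := by
  have h2 : (XX0⁻¹).1 * X0 = 1 := congrArg Subtype.val (inv_mul_cancel XX0)
  calc (XX0⁻¹).1 = (XX0⁻¹).1 * (X0 * X0i) := by rw [X0_mul, Matrix.mul_one]
    _ = X0i := by rw [← Matrix.mul_assoc, h2, Matrix.one_mul]

theorem tr_XX0 : XX0.1ᵀ = XX0.1 := by decide +kernel

theorem eq_lo {L : SpecialLinearGroup (Fin 3) (ZMod 2)} (hL : L ∈ LT 3 (ZMod 2)) :
    L.1 = lo (L.1 1 0) (L.1 2 0) (L.1 2 1) := by
  rw [mem_LT] at hL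
  ext i j
  fin_cases i <;> fin_cases j <;> first | exact hL.2 _ | exact hL.1 _ _ (by decide) | rfl

theorem eq_up {U : SpecialLinearGroup (Fin 3) (ZMod 2)} (hU : U ∈ UT 3 (ZMod 2)) :
    U.1 = up (U.1 0 1) (U.1 0 2) (U.1 1 2) := by
  rw [mem_UT] at hU
  ext i j
  fin_cases i <;> fin_cases j <;> first | exact hU.2 _ | exact hU.1 _ _ (by decide) | rfl

/-- **(F1)** -/
theorem prod_seven {L U : SpecialLinearGroup (Fin 3) (ZMod 2)} (hL : L ∈ LT 3 (ZMod 2)) (hU : U ∈ UT 3 (ZMod 2)) :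
    ∃ g h : SpecialLinearGroup (Fin 3) (ZMod 2), L * U = (g * XX0 * g⁻¹) * (h * XX0 * h⁻¹) ∨
      L * U = (g * XX0 * g⁻¹) * (h * XX0 * h⁻¹)⁻¹ := by
  obtain ⟨h1, h2, h3⟩ := chk1 (L.1 1 0) (L.1 2 0) (L.1 2 1) (U.1 0 1) (U.1 0 2) (U.1 1 2)
  rw [← eq_lo hL, ← eq_up hU] at h3
  obtain ⟨g, hg1, hg2⟩ := exists_S h1
  obtain ⟨k, hk1, hk2⟩ := exists_S h2
  refine ⟨g, k, ?_⟩
  rw [← hg1, ← hg2, ← hk1, ← hk2] at h3
  split_ifs at h3 with hs
  · right
    apply Subtype.ext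
    have e : (g * XX0 * g⁻¹) * (k * XX0 * k⁻¹)⁻¹ = (g * XX0 * g⁻¹) * (k * XX0⁻¹ * k⁻¹) := by group
    rw [e]
    change L.1 * U.1 = (g.1 * X0 * (g⁻¹).1) * (k.1 * (XX0⁻¹).1 * (k⁻¹).1)
    rw [XX0_inv]
    exact h3
  · left
    apply Subtype.ext
    exact h3

/-- **(F2)** -/
theorem parity {L U : SpecialLinearGroup (Fin 3) (ZMod 2)} (hL : L ∈ LT 3 (ZMod 2)) (hU : U ∈ UT 3 (ZMod 2)) :
    ∃ y : SpecialLinearGroup (Fin 3) (ZMod 2), ∃ L' ∈ LT 3 (ZMod 2), ∃ U' ∈ UT 3 (ZMod 2),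
      y * (L * U) * y⁻¹ = L' * U' ∧ (L'.1 2 1 = 0 ↔ U'.1 1 2 = 0) := by
  obtain ⟨h1, h2, h3⟩ := chk2 (L.1 1 0) (L.1 2 0) (L.1 2 1) (U.1 0 1) (U.1 0 2) (U.1 1 2)
  rw [← eq_lo hL, ← eq_up hU] at h2
  obtain ⟨y, hy1, hy2⟩ := exists_S h1
  rw [← hy1, ← hy2] at h2
  set a := bt (tab2.getD (idx (L.1 1 0) (L.1 2 0) (L.1 2 1) (U.1 0 1) (U.1 0 2) (U.1 1 2)) (0, 0, 0)).2.2 5
  set b := bt (tab2.getD (idx (L.1 1 0) (L.1 2 0) (L.1 2 1) (U.1 0 1) (U.1 0 2) (U.1 1 2)) (0, 0, 0)).2.2 4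
  set c := bt (tab2.getD (idx (L.1 1 0) (L.1 2 0) (L.1 2 1) (U.1 0 1) (U.1 0 2) (U.1 1 2)) (0, 0, 0)).2.2 3
  set a' := bt (tab2.getD (idx (L.1 1 0) (L.1 2 0) (L.1 2 1) (U.1 0 1) (U.1 0 2) (U.1 1 2)) (0, 0, 0)).2.2 2
  set b' := bt (tab2.getD (idx (L.1 1 0) (L.1 2 0) (L.1 2 1) (U.1 0 1) (U.1 0 2) (U.1 1 2)) (0, 0, 0)).2.2 1
  set c' := bt (tab2.getD (idx (L.1 1 0) (L.1 2 0) (L.1 2 1) (U.1 0 1) (U.1 0 2) (U.1 1 2)) (0, 0, 0)).2.2 0
  have d1 : (lo a b c).det = 1 := by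
    have : ∀ a b c : ZMod 2, (lo a b c).det = 1 := by decide +kernel
    exact this a b c
  have d2 : (up a' b' c').det = 1 := by
    have : ∀ a b c : ZMod 2, (up a b c).det = 1 := by decide +kernel
    exact this a' b' c'
  let L' : SpecialLinearGroup (Fin 3) (ZMod 2) := ⟨lo a b c, d1⟩
  let U' : SpecialLinearGroup (Fin 3) (ZMod 2) := ⟨up a' b' c', d2⟩
  have hL' : L' ∈ LT 3 (ZMod 2) := by
    rw [mem_LT]
    constructor
    · intro i j hij
      fin_cases i <;> fin_cases j <;> first | rfl | exact absurd hij (by decide)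
    · intro i
      fin_cases i <;> rfl
  have hU' : U' ∈ UT 3 (ZMod 2) := by
    rw [mem_UT]
    constructor
    · intro i j hij
      fin_cases i <;> fin_cases j <;> first | rfl | exact absurd hij (by decide)
    · intro i
      fin_cases i <;> rfl
  refine ⟨y, L', hL', U', hU', ?_, ?_⟩
  · apply Subtype.ext
    exact h2
  · change c = 0 ↔ c' = 0
    rw [h3]

/-! ### `SL₂(2)` -/

/-- the element of order 3 -/
def w : SpecialLinearGroup (Fin 2) (ZMod 2) := ⟨!![1, 1; 1, 0], by decide +kernel⟩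

/-- the swap -/
def sw : SpecialLinearGroup (Fin 2) (ZMod 2) := ⟨!![0, 1; 1, 0], by decide +kernel⟩

theorem tr_w : w.1ᵀ = w.1 := by decide +kernel

theorem sw_w : sw * w * sw⁻¹ = w⁻¹ := by
  have h1 : sw * w * sw * w = 1 := by decide +kernel
  have h2 : sw * sw = 1 := by decide +kernel
  have h3 : sw⁻¹ = sw := inv_eq_of_mul_eq_one_right h2
  rw [h3]
  exact eq_inv_of_mul_eq_one_left h1

theorem w_three : w * w * w = 1 := by decide +kernel

/-- **(F3)** -/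
theorem prod_three {L U : SpecialLinearGroup (Fin 2) (ZMod 2)} (hL : L ∈ LT 2 (ZMod 2)) (hU : U ∈ UT 2 (ZMod 2))
    (h : L.1 1 0 = 0 ↔ U.1 0 1 = 0) :
    ∃ g h : SpecialLinearGroup (Fin 2) (ZMod 2), L * U = (g * w * g⁻¹) * (h * w * h⁻¹) := by
  rw [mem_LT] at hL
  rw [mem_UT] at hU
  have e1 : L.1 = !![1, 0; L.1 1 0, 1] := by
    ext i j
    fin_cases i <;> fin_cases j <;> first | exact hL.2 _ | exact hL.1 _ _ (by decide) | rfl
  have e2 : U.1 = !![1, U.1 0 1; 0, 1] := by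
    ext i j
    fin_cases i <;> fin_cases j <;> first | exact hU.2 _ | exact hU.1 _ _ (by decide) | rfl
  by_cases h0 : L.1 1 0 = 0
  · rw [h0] at e1
    rw [h.1 h0] at e2
    refine ⟨1, sw, ?_⟩
    have h1 : L * U = 1 := by
      apply Subtype.ext
      change L.1 * U.1 = 1
      rw [e1, e2]
      decide +kernel
    rw [h1, sw_w]; group
  · have h0' : U.1 0 1 ≠ 0 := fun h1 => h0 (h.2 h1)
    rw [one_of_ne h0] at e1
    rw [one_of_ne h0'] at e2
    refine ⟨sw, sw, ?_⟩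
    have h1 : L * U = w := by
      apply Subtype.ext
      change L.1 * U.1 = _
      rw [e1, e2]
      decide +kernel
    have h2 := w_three
    rw [h1, sw_w]
    calc w = w * w * w * w⁻¹ * w⁻¹ := by group
      _ = w⁻¹ * w⁻¹ := by rw [h2, one_mul]

/-! ### The products -/

/-- a product with `SL₃(2)` -/
theorem prod_pair {H : Type*} [Group H] {w₀ : H} (hw : ∃ r : H, r * w₀ * r⁻¹ = w₀⁻¹)
    {L U : SpecialLinearGroup (Fin 3) (ZMod 2)} (hL : L ∈ LT 3 (ZMod 2)) (hU : U ∈ UT 3 (ZMod 2)) {l u : H}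
    (h : ∃ g h : H, l * u = (g * w₀ * g⁻¹) * (h * w₀ * h⁻¹)) :
    ∃ g h : SpecialLinearGroup (Fin 3) (ZMod 2) × H,
      (L, l) * (U, u) = (g * (XX0, w₀) * g⁻¹) * (h * (XX0, w₀) * h⁻¹) ∨
      (L, l) * (U, u) = (g * (XX0, w₀) * g⁻¹) * (h * (XX0, w₀) * h⁻¹)⁻¹ := by
  obtain ⟨r, hr⟩ := hw
  obtain ⟨a, b, hab⟩ := h
  obtain ⟨g, k, e | e⟩ := prod_seven hL hU
  · exact ⟨(g, a), (k, b), Or.inl (Prod.ext e hab)⟩
  · refine ⟨(g, a), (k, b * r⁻¹), Or.inr (Prod.ext e ?_)⟩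
    change l * u = (a * w₀ * a⁻¹) * ((b * r⁻¹) * w₀ * (b * r⁻¹)⁻¹)⁻¹
    rw [hab]
    have h1 : w₀ = r⁻¹ * w₀⁻¹ * r := by rw [← hr]; group
    have h2 : ((b * r⁻¹) * w₀ * (b * r⁻¹)⁻¹)⁻¹ = b * (r⁻¹ * w₀⁻¹ * r) * b⁻¹ := by group
    rw [h2, ← h1]

/-- two copies of `SL₂(2)` -/
theorem prod_three_two {L U L' U' : SpecialLinearGroup (Fin 2) (ZMod 2)} (hL : L ∈ LT 2 (ZMod 2))
    (hU : U ∈ UT 2 (ZMod 2)) (h : L.1 1 0 = 0 ↔ U.1 0 1 = 0) (hL' : L' ∈ LT 2 (ZMod 2))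
    (hU' : U' ∈ UT 2 (ZMod 2)) (h' : L'.1 1 0 = 0 ↔ U'.1 0 1 = 0) :
    ∃ g h : SpecialLinearGroup (Fin 2) (ZMod 2) × SpecialLinearGroup (Fin 2) (ZMod 2),
      (L, L') * (U, U') = (g * (w, w) * g⁻¹) * (h * (w, w) * h⁻¹) := by
  obtain ⟨a, b, hab⟩ := prod_three hL hU h
  obtain ⟨c, d, hcd⟩ := prod_three hL' hU' h'
  exact ⟨(a, c), (b, d), Prod.ext hab hcd⟩

theorem real_ww : ∃ r : SpecialLinearGroup (Fin 2) (ZMod 2) × SpecialLinearGroup (Fin 2) (ZMod 2),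
    r * (w, w) * r⁻¹ = (w, w)⁻¹ := ⟨(sw, sw), Prod.ext sw_w sw_w⟩

end Cfsg.Agent.H584.Ore.Tab
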