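import Cfsg.Agent.H584.Ore.ESix
import Cfsg.Agent.H692.Ore.ESix
import Cfsg.Agent.H267.Ore.ESixFix

/-!
# Row `E₆(2)` of S2443 and S4171
-/

set_option autoImplicit false
set_option linter.unusedSectionVars false

namespace Cfsg.Agent.H584.Ore.ESixTwo

open Cfsg.Lie Cfsg.Agent.ChevalleyStructure Cfsg.Agent.ChevalleyStructure.Elts Cfsg.Agent.Nodes.Bruhat
  Cfsg.Agent.ChevalleyStructure.CoxeterGeomTypes Cfsg.Agent.Nodes.RGDChev Cfsg.Agent.Nodes.LeviDec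
  Cfsg.Agent.OddHalf.NI.ModelChev Cfsg.Agent.KFacts.RgdChevCoord Cfsg.Agent.Nodes.KindE
  Cfsg.Agent.H162.GaussExcMain Cfsg.Agent.H584.Ore.Tab Cfsg.Agent.H584.Ore.Build Cfsg.Agent.H584.Ore.ESix
  Cfsg.Agent.H928.Ore.Frame
open Matrix (SpecialLinearGroup)
open Matrix.SpecialLinearGroup (transvection)

theorem pow_seven {G H : Type*} [Group G] [Group H] (f : G →* H) {a : G} (h : a * a * a * a * a * a * a = 1) :
    orderOf (f a) ∣ 21 := by
  apply orderOf_dvd_of_pow_eq_one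
  have h1 : f a ^ 7 = 1 := by
    rw [← map_one f, ← h]
    simp only [map_mul, pow_succ, pow_zero, one_mul]
  rw [show 21 = 7 * 3 from rfl, pow_mul, h1, one_pow]

theorem pow_thr {G H : Type*} [Group G] [Group H] (f : G →* H) {a : G} (h : a * a * a = 1) : orderOf (f a) ∣ 21 := by
  apply orderOf_dvd_of_pow_eq_one
  have h1 : f a ^ 3 = 1 := by
    rw [← map_one f, ← h]
    simp only [map_mul, pow_succ, pow_zero, one_mul]
  rw [show 21 = 3 * 7 from rfl, pow_mul, h1, one_pow]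

theorem ord_three {G : Type*} [Group G] {a b c : G} (h : Commute a (b * c)) (h' : Commute b c) (ha : orderOf a ∣ 21)
    (hb : orderOf b ∣ 21) (hc : orderOf c ∣ 21) : orderOf (a * (b * c)) ∣ 21 := by
  rw [orderOf_dvd_iff_pow_eq_one] at *
  rw [h.mul_pow, h'.mul_pow, ha, hb, hc, one_mul, one_mul]

/-- **The class of order `21`.** -/
theorem exists_data : ∃ c z : ↥(chevE6.group (ZMod 2)), z * z = 1 ∧ z * c * z⁻¹ = c⁻¹ ∧ orderOf c ∣ 21 ∧
    ∀ g, ∃ x y : ↥(chevE6.group (ZMod 2)), g = (x * c * x⁻¹) * (y * c * y⁻¹) := by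
  obtain ⟨φ, hφ⟩ := exists_hom_D isType6 (K := ZMod 2) (ε := 1) (by norm_num) rt6.1 rt6.2.1 rt6.2.2.1 rt6.2.2.2
  have hφ' : ∀ a b (hab : a ≠ b) c, φ (transvection hab c) =
      xc isType6 (vec chevE6 6 (r6 a b)) ((fun _ _ : Fin 3 => ((1 : ℤ) : ZMod 2)) a b * c) := hφ
  have c10 := comm_blocks isType6 chkJ1.tab.rlt chkJ2.tab.rlt o2 hφ' (sl_tv isType6 0) XX0 w
  have c15 := comm_blocks isType6 chkJ1.tab.rlt chkJ3.tab.rlt o3 hφ' (sl_tv isType6 5) XX0 w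
  obtain ⟨z, hz2, hz⟩ := Cfsg.Agent.H692.Ore.ESix.rev isType6 hφ tr_XX0 tr_w (c10.mul_right c15).eq
  obtain ⟨hP, hN⟩ := Cfsg.Agent.H267.Ore.ESix.fixJ hφ
  refine ⟨_, z, hz2, hz, ?_, square hφ hz hP hN⟩
  have c05 := comm_blocks isType6 chkJ2.tab.rlt chkJ3.tab.rlt o1 (sl_tv isType6 (K := ZMod 2) 0) (sl_tv isType6 5) w w
  have h7 : XX0 * XX0 * XX0 * XX0 * XX0 * XX0 * XX0 = 1 := by
    apply Subtype.ext
    change X0 * X0 * X0 * X0 * X0 * X0 * X0 = 1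
    decide +kernel
  have k1 := pow_seven φ h7
  have k2 := pow_thr (sl isType6 (K := ZMod 2) 0) w_three
  have k3 := pow_thr (sl isType6 (K := ZMod 2) 5) w_three
  have k4 := c10.mul_right c15
  have k5 := ord_three k4 c05 k1 k2 k3
  exact k5

/-- **`E₆(2)`, S2443.** -/
theorem allC_E6_two {K : Type*} [Field K] (hK : Nat.card K = 2) : Cfsg.Agent.H777.Ore.AllC ↥(chevE6.group K) := by
  obtain ⟨c, z, -, hz, -, h⟩ := exists_data
  exact allC_congr chevE6 hK (allC_of hz h)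

/-- **`E₆(2)`, S4171.** -/
theorem inv4_E6_two {K : Type*} [Field K] (hK : Nat.card K = 2) : Cfsg.Agent.H777.Ore.Inv4 ↥(chevE6.group K) := by
  obtain ⟨c, z, hz2, hz, -, h⟩ := exists_data
  exact inv4_congr chevE6 hK (inv4_of hz h hz2)

end Cfsg.Agent.H584.Ore.ESixTwo
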