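import Cfsg.Agent.H584.Ore.Par
import Cfsg.Agent.H584.Ore.Tab
import Cfsg.Agent.H162.GaussExcMain

/-!
# Constructors for the data of `square_par` (S2443, S4171: `E₆(2)`, `F₄(2)`)

* `ab_prod`, `crd_inl`, `crd_inr` : two commuting blocks;
* `TabN` : the table of a block of type `A`; `ab_two`, `ab_three`, `crd_two`, `crd_three`;
* `comm_blocks` : two blocks commute;
* `core` : from the elements outside the core of `B` to all elements.
-/

set_option autoImplicit false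
set_option linter.unusedSectionVars false

namespace Cfsg.Agent.H584.Ore.Build

open CoxeterSystem Cfsg.Agent.ChevalleyStructure.CoxeterGeom Cfsg.Agent.Tits.Roots Cfsg.Agent.Tits.Core
  Cfsg.Agent.Nodes.Reps
  Cfsg.Agent.Nodes.BNOf Cfsg.Agent.Nodes.StabComb
  Cfsg.Agent.Nodes.RGDLib Cfsg.Agent.Nodes.Bruhat Cfsg.Agent.Nodes.OppDec Cfsg.Agent.Nodes.LeviDec
  Cfsg.Agent.OddHalf.NI.Mult
  Cfsg.Agent.H162.GaussDec Cfsg.Agent.H162.GaussLevi Cfsg.Agent.H584.Ore.Engine Cfsg.Agent.H584.Ore.Par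

section

variable {I W Y : Type*} [Fintype I] [DecidableEq I] [Group W] [Group Y] {M : CoxeterMatrix I}
  {cs : CoxeterSystem M W} {A : I → I → ℤ} {h : IsCartan M A} {p : ℕ} {T : Subgroup Y} {n : I → Y}
  {X : (I → ℤ) → Subgroup Y}

theorem UJ_mono {J J' : Set I} (hJ : J ⊆ J') : UJ cs h X J ≤ UJ cs h X J' :=
  RGD.Sup_mono fun _ hx => ⟨hx.1, hx.2.1, fun k hk => hx.2.2 k fun h1 => hk (hJ h1)⟩

theorem UNJ_mono {J J' : Set I} (hJ : J ⊆ J') : UNJ cs h X J ≤ UNJ cs h X J' :=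
  RGD.Sup_mono (S := {x | -x ∈ PosJ cs h J}) (S' := {x | -x ∈ PosJ cs h J'})
    fun _ hx => ⟨hx.1, hx.2.1, fun k hk => hx.2.2 k fun h1 => hk (hJ h1)⟩

theorem exists_pos {J : Set I} {r : I → ℤ} (hr : r ∈ PosJ cs h J) {k : I} (hk : k ∉ J) : ∃ j, j ∉ ({k} : Set I) ∧ 0 < r j := by
  obtain ⟨j, hj⟩ := Function.ne_iff.1 hr.1.ne_zero
  have h1 : 0 < r j := lt_of_le_of_ne (hr.2.1 j) (Ne.symm hj)
  refine ⟨j, ?_, h1⟩
  rintro rfl
  exact hj (hr.2.2 _ hk)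

theorem UJ_le_VJ {J : Set I} {k : I} (hk : k ∉ J) : UJ cs h X J ≤ VJ cs h X {k} :=
  RGD.Sup_mono fun _ hx => ⟨hx.1, hx.2.1, exists_pos hx hk⟩

theorem UNJ_le_VNJ {J : Set I} {k : I} (hk : k ∉ J) : UNJ cs h X J ≤ VNJ cs h X {k} :=
  RGD.Sup_mono (S := {x | -x ∈ PosJ cs h J}) (S' := NotNJ cs h {k}) fun _ hx => ⟨hx.1, hx.2.1, exists_pos hx hk⟩

section

variable {G₁ G₂ : Type*} [Group G₁] [Group G₂] {Φ₁ : G₁ →* Y} {Φ₂ : G₂ →* Y} {U₁ L₁ : Subgroup G₁} {U₂ L₂ : Subgroup G₂}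
  (hc : ∀ a b, Commute (Φ₁ a) (Φ₂ b))

theorem ab_prod {J₁ J₂ J : Set I} (D₁ : AB cs h T X J₁ Φ₁ U₁ L₁) (D₂ : AB cs h T X J₂ Φ₂ U₂ L₂)
    (h1 : J₁ ⊆ J) (h2 : J₂ ⊆ J) (hJ : ∀ r ∈ PosJ cs h J, r ∈ PosJ cs h J₁ ∨ r ∈ PosJ cs h J₂) :
    AB cs h T X J (Φ₁.noncommCoprod Φ₂ hc) (U₁.prod U₂) (L₁.prod L₂) where
  range x := mul_mem (LJ_mono h1 (D₁.range x.1)) (LJ_mono h2 (D₂.range x.2))
  up r hr := by
    rcases hJ r hr with h3 | h3
    · intro y hy
      obtain ⟨B, hB, rfl⟩ := D₁.up r h3 hy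
      exact ⟨(B, 1), ⟨hB, one_mem _⟩, by rw [MonoidHom.noncommCoprod_apply]; simp⟩
    · intro y hy
      obtain ⟨B, hB, rfl⟩ := D₂.up r h3 hy
      exact ⟨(1, B), ⟨one_mem _, hB⟩, by rw [MonoidHom.noncommCoprod_apply]; simp⟩
  lo r hr := by
    rcases hJ r hr with h3 | h3
    · intro y hy
      obtain ⟨B, hB, rfl⟩ := D₁.lo r h3 hy
      exact ⟨(B, 1), ⟨hB, one_mem _⟩, by rw [MonoidHom.noncommCoprod_apply]; simp⟩
    · intro y hy
      obtain ⟨B, hB, rfl⟩ := D₂.lo r h3 hy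
      exact ⟨(1, B), ⟨one_mem _, hB⟩, by rw [MonoidHom.noncommCoprod_apply]; simp⟩
  up' := by
    rintro _ ⟨B, hB, rfl⟩
    exact mul_mem (UJ_mono h1 (D₁.up' ⟨B.1, hB.1, rfl⟩)) (UJ_mono h2 (D₂.up' ⟨B.2, hB.2, rfl⟩))
  lo' := by
    rintro _ ⟨B, hB, rfl⟩
    exact mul_mem (UNJ_mono h1 (D₁.lo' ⟨B.1, hB.1, rfl⟩)) (UNJ_mono h2 (D₂.lo' ⟨B.2, hB.2, rfl⟩))

theorem crd_inl {k : I} {ZU ZL : G₁ → Prop} (C : Crd cs h X k Φ₁ U₁ L₁ ZU ZL) {J₂ : Set I}
    (D₂ : AB cs h T X J₂ Φ₂ U₂ L₂) (hk : k ∉ J₂) :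
    Crd cs h X k (Φ₁.noncommCoprod Φ₂ hc) (U₁.prod U₂) (L₁.prod L₂) (fun x => ZU x.1) (fun x => ZL x.1) where
  triv B hB h1 := mul_mem (C.triv B.1 hB.1 h1) (UJ_le_VJ hk (D₂.up' ⟨B.2, hB.2, rfl⟩))
  ltriv B hB h1 := mul_mem (C.ltriv B.1 hB.1 h1) (UNJ_le_VNJ hk (D₂.lo' ⟨B.2, hB.2, rfl⟩))
  ntriv B hB h1 := by
    obtain ⟨t, ht, ht1, h2⟩ := C.ntriv B.1 hB.1 h1
    refine ⟨(t, 1), ?_, ?_, ?_⟩
    · rw [MonoidHom.noncommCoprod_apply, map_one, mul_one]; exact ht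
    · rw [MonoidHom.noncommCoprod_apply, map_one, mul_one]; exact ht1
    · have e : ((t, 1)⁻¹ * B : G₁ × G₂) = (t⁻¹ * B.1, B.2) := by
        ext
        · rfl
        · change (1 : G₂)⁻¹ * B.2 = B.2
          rw [inv_one, one_mul]
      rw [e]
      exact mul_mem h2 (UJ_le_VJ hk (D₂.up' ⟨B.2, hB.2, rfl⟩))
  lntriv B hB h1 := by
    obtain ⟨t, ht, ht1, h2⟩ := C.lntriv B.1 hB.1 h1
    refine ⟨(t, 1), ?_, ?_, ?_⟩
    · rw [MonoidHom.noncommCoprod_apply, map_one, mul_one]; exact ht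
    · rw [MonoidHom.noncommCoprod_apply, map_one, mul_one]; exact ht1
    · have e : ((t, 1)⁻¹ * B : G₁ × G₂) = (t⁻¹ * B.1, B.2) := by
        ext
        · rfl
        · change (1 : G₂)⁻¹ * B.2 = B.2
          rw [inv_one, one_mul]
      rw [e]
      exact mul_mem h2 (UNJ_le_VNJ hk (D₂.lo' ⟨B.2, hB.2, rfl⟩))

theorem crd_inr {k : I} {ZU ZL : G₂ → Prop} (C : Crd cs h X k Φ₂ U₂ L₂ ZU ZL) {J₁ : Set I}
    (D₁ : AB cs h T X J₁ Φ₁ U₁ L₁) (hk : k ∉ J₁) :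
    Crd cs h X k (Φ₁.noncommCoprod Φ₂ hc) (U₁.prod U₂) (L₁.prod L₂) (fun x => ZU x.2) (fun x => ZL x.2) where
  triv B hB h1 := mul_mem (UJ_le_VJ hk (D₁.up' ⟨B.1, hB.1, rfl⟩)) (C.triv B.2 hB.2 h1)
  ltriv B hB h1 := mul_mem (UNJ_le_VNJ hk (D₁.lo' ⟨B.1, hB.1, rfl⟩)) (C.ltriv B.2 hB.2 h1)
  ntriv B hB h1 := by
    obtain ⟨t, ht, ht1, h2⟩ := C.ntriv B.2 hB.2 h1
    refine ⟨(1, t), ?_, ?_, ?_⟩
    · rw [MonoidHom.noncommCoprod_apply, map_one, one_mul]; exact ht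
    · rw [MonoidHom.noncommCoprod_apply, map_one, one_mul]; exact ht1
    · have e : ((1, t)⁻¹ * B : G₁ × G₂) = (B.1, t⁻¹ * B.2) := by
        ext
        · change (1 : G₁)⁻¹ * B.1 = B.1
          rw [inv_one, one_mul]
        · rfl
      rw [e]
      exact mul_mem (UJ_le_VJ hk (D₁.up' ⟨B.1, hB.1, rfl⟩)) h2
  lntriv B hB h1 := by
    obtain ⟨t, ht, ht1, h2⟩ := C.lntriv B.2 hB.2 h1
    refine ⟨(1, t), ?_, ?_, ?_⟩
    · rw [MonoidHom.noncommCoprod_apply, map_one, one_mul]; exact ht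
    · rw [MonoidHom.noncommCoprod_apply, map_one, one_mul]; exact ht1
    · have e : ((1, t)⁻¹ * B : G₁ × G₂) = (B.1, t⁻¹ * B.2) := by
        ext
        · change (1 : G₁)⁻¹ * B.1 = B.1
          rw [inv_one, one_mul]
        · rfl
      rw [e]
      exact mul_mem (UNJ_le_VNJ hk (D₁.lo' ⟨B.1, hB.1, rfl⟩)) h2

end

end

/-! ### Chevalley groups -/

section

open Cfsg.Lie Cfsg.Agent.ChevalleyStructure Cfsg.Agent.ChevalleyStructure.Elts
  Cfsg.Agent.ChevalleyStructure.RootVec Cfsg.Agent.ChevalleyStructure.NPerm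
  Cfsg.Agent.ChevalleyStructure.CoxeterGeomTypes Cfsg.Agent.Nodes.RGDChev Cfsg.Agent.KFacts.RgdChevCoord
  Cfsg.Agent.Nodes.KindChev Cfsg.Agent.Nodes.ChevCls Cfsg.Agent.OddHalf.NI.ModelChev
  Cfsg.Agent.H162.GaussSL Cfsg.Agent.H162.GaussReg Cfsg.Agent.H162.GaussExc Cfsg.Agent.H162.GaussMain
  Cfsg.Agent.H162.GaussPQ
open Cfsg.Agent.FixBN.FieldRGD (uu vv dd ww)
open Matrix (SpecialLinearGroup)
open Matrix.SpecialLinearGroup (transvection)

universe u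

/-- the table of a block of type `A_{n-1}` with the nodes `J` -/
structure TabN (D : ChevalleyDatum) (l : ℕ) (J : List (Fin l)) (n : ℕ) (r : Fin n → Fin n → ℕ) : Prop where
  rlt : ∀ a b, a ≠ b → r a b < D.nroots
  rJ : ∀ a b, a ≠ b → ∀ k, k ∉ J → vec D l (r a b) k = 0
  pos : ∀ a b, a < b → ∀ k, 0 ≤ vec D l (r a b) k
  neg : ∀ a b, a ≠ b → r b a = D.neg (r a b)
  sub : ∀ q < D.nroots, (∀ k, k ∉ J → vec D l q k = 0) → ∃ a b, a ≠ b ∧ r a b = q

/-- the last part of `TabN` -/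
def SubN (D : ChevalleyDatum) (l : ℕ) (J : List (Fin l)) (n : ℕ) (r : Fin n → Fin n → ℕ) : Prop :=
  ∀ q < D.nroots, (∀ k, k ∉ J → vec D l q k = 0) → ∃ a b, a ≠ b ∧ r a b = q

instance (D : ChevalleyDatum) (l : ℕ) (J : List (Fin l)) (n : ℕ) (r : Fin n → Fin n → ℕ) : Decidable (SubN D l J n r) := by
  unfold SubN
  refine @Nat.decidableBallLT _ _ fun q _ => ?_
  infer_instance

/-- decidable form of `TabN` -/
def ChkN (D : ChevalleyDatum) (l : ℕ) (J : List (Fin l)) (n : ℕ) (r : Fin n → Fin n → ℕ) : Prop :=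
  (∀ a b, a ≠ b → r a b < D.nroots) ∧ (∀ a b, a ≠ b → ∀ k, k ∉ J → vec D l (r a b) k = 0) ∧
  (∀ a b, a < b → ∀ k, 0 ≤ vec D l (r a b) k) ∧ (∀ a b, a ≠ b → r b a = D.neg (r a b)) ∧ SubN D l J n r

instance (D : ChevalleyDatum) (l : ℕ) (J : List (Fin l)) (n : ℕ) (r : Fin n → Fin n → ℕ) : Decidable (ChkN D l J n r) := by
  unfold ChkN; infer_instance

theorem ChkN.tab {D : ChevalleyDatum} {l : ℕ} {J : List (Fin l)} {n : ℕ} {r : Fin n → Fin n → ℕ} (h : ChkN D l J n r) :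
    TabN D l J n r := ⟨h.1, h.2.1, h.2.2.1, h.2.2.2.1, h.2.2.2.2⟩

/-- the roots of two blocks are orthogonal -/
def Orth (D : ChevalleyDatum) {n m : ℕ} (r₁ : Fin n → Fin n → ℕ) (r₂ : Fin m → Fin m → ℕ) : Prop :=
  ∀ a b, a ≠ b → ∀ c d, c ≠ d → r₂ c d ≠ r₁ a b ∧ r₂ c d ≠ D.neg (r₁ a b) ∧ D.commTerms (r₁ a b) (r₂ c d) = []

instance (D : ChevalleyDatum) {n m : ℕ} (r₁ : Fin n → Fin n → ℕ) (r₂ : Fin m → Fin m → ℕ) : Decidable (Orth D r₁ r₂) := by
  unfold Orth; infer_instance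

/-- the roots with support in `J` have support in `J₁` or `J₂` -/
def Split (D : ChevalleyDatum) (l : ℕ) (J J₁ J₂ : List (Fin l)) : Prop :=
  ∀ q < D.nroots, (∀ k, k ∉ J → vec D l q k = 0) → (∀ k, k ∉ J₁ → vec D l q k = 0) ∨ (∀ k, k ∉ J₂ → vec D l q k = 0)

instance (D : ChevalleyDatum) (l : ℕ) (J J₁ J₂ : List (Fin l)) : Decidable (Split D l J J₁ J₂) := by
  unfold Split
  refine @Nat.decidableBallLT _ _ fun q _ => ?_
  infer_instance

variable {D : ChevalleyDatum} {l : ℕ} {M : CoxeterMatrix (Fin l)} (hp : IsType D l M) {K : Type u} [Field K]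

include hp in
theorem Split.pos {J J₁ J₂ : List (Fin l)} (h : Split D l J J₁ J₂) :
    ∀ r ∈ PosJ M.toCoxeterSystem hp.isCartan {k | k ∈ J},
      r ∈ PosJ M.toCoxeterSystem hp.isCartan {k | k ∈ J₁} ∨ r ∈ PosJ M.toCoxeterSystem hp.isCartan {k | k ∈ J₂} := by
  intro x hx
  obtain ⟨q, hq, rfl⟩ := (isRoot_iff hp _ x).1 hx.1
  rcases h q hq hx.2.2 with h1 | h1
  · exact .inl ⟨hx.1, hx.2.1, h1⟩
  · exact .inr ⟨hx.1, hx.2.1, h1⟩

theorem mem_X {q : ℕ} (hq : q < D.nroots) (c : K) : xc hp (vec D l q) c ∈ XX D l K (vec D l q) :=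
  (mem_XX hp hq _).2 ⟨_, rfl⟩

/-- commuting blocks -/
theorem comm_blocks {n m : ℕ} {r₁ : Fin n → Fin n → ℕ} {r₂ : Fin m → Fin m → ℕ} (h₁ : ∀ a b, a ≠ b → r₁ a b < D.nroots)
    (h₂ : ∀ a b, a ≠ b → r₂ a b < D.nroots) (ho : Orth D r₁ r₂) {s₁ : Fin n → Fin n → K} {s₂ : Fin m → Fin m → K}
    {φ₁ : SpecialLinearGroup (Fin n) K →* ↥(D.group K)} {φ₂ : SpecialLinearGroup (Fin m) K →* ↥(D.group K)}
    (hφ₁ : ∀ a b (hab : a ≠ b) c, φ₁ (transvection hab c) = xc hp (vec D l (r₁ a b)) (s₁ a b * c))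
    (hφ₂ : ∀ a b (hab : a ≠ b) c, φ₂ (transvection hab c) = xc hp (vec D l (r₂ a b)) (s₂ a b * c)) :
    ∀ x y, Commute (φ₁ x) (φ₂ y) := by
  have key : ∀ a b (hab : a ≠ b) t c d (hcd : c ≠ d) u, Commute (φ₁ (transvection hab t)) (φ₂ (transvection hcd u)) := by
    intro a b hab t c d hcd u
    obtain ⟨o1, o2, o3⟩ := ho a b hab c d hcd
    rw [hφ₁, hφ₂]
    have h3 := comm_xG hp (K := K) (h₁ a b hab) (h₂ c d hcd) o1 o2 (s₁ a b * t) (s₂ c d * u)
    have h4 : D.commWord K (r₁ a b) (r₂ c d) (s₁ a b * t) (s₂ c d * u) = [] := by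
      show (D.commTerms (r₁ a b) (r₂ c d)).map _ = []
      rw [o3, List.map_nil]
    rw [h4, wordG_nil, commutatorElement_def, inv_inv, inv_inv] at h3
    apply Subtype.ext
    change ((xc hp (vec D l (r₁ a b)) (s₁ a b * t) : ↥(D.group K)) : GL D.Idx K) *
      ((xc hp (vec D l (r₂ c d)) (s₂ c d * u) : ↥(D.group K)) : GL D.Idx K) = _ * _
    rw [coe_xc hp (h₁ a b hab), coe_xc hp (h₂ c d hcd)]
    generalize xG (F := K) hp.inList (r₁ a b) (s₁ a b * t) = A at h3 ⊢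
    generalize xG (F := K) hp.inList (r₂ c d) (s₂ c d * u) = B at h3 ⊢
    calc A * B = (B * A) * (A⁻¹ * B⁻¹ * A * B) := by group
      _ = B * A * (B⁻¹ * A⁻¹ * B * A)⁻¹ := by group
      _ = B * A := by rw [h3, inv_one, mul_one]
  have key2 : ∀ a b (hab : a ≠ b) t y, Commute (φ₁ (transvection hab t)) (φ₂ y) := by
    intro a b hab t y
    have h1 : (⊤ : Subgroup (SpecialLinearGroup (Fin m) K)) ≤ (Subgroup.centralizer {φ₁ (transvection hab t)}).comap φ₂ := by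
      rw [← Cfsg.Agent.LieClassical.SLGen.closure_transvections, Subgroup.closure_le]
      rintro _ ⟨c, d, hcd, u, rfl⟩
      exact Subgroup.mem_centralizer_singleton_iff.2 (key a b hab t c d hcd u).symm.eq
    exact (Subgroup.mem_centralizer_singleton_iff.1 (h1 (Subgroup.mem_top y))).symm
  intro x y
  have h1 : (⊤ : Subgroup (SpecialLinearGroup (Fin n) K)) ≤ (Subgroup.centralizer {φ₂ y}).comap φ₁ := by
    rw [← Cfsg.Agent.LieClassical.SLGen.closure_transvections, Subgroup.closure_le]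
    rintro _ ⟨a, b, hab, t, rfl⟩
    exact Subgroup.mem_centralizer_singleton_iff.2 (key2 a b hab t y).eq
  exact Subgroup.mem_centralizer_singleton_iff.1 (h1 (Subgroup.mem_top x))

/-! #### The data of one block -/

section Blocks

variable {J : List (Fin l)} {n : ℕ} {r : Fin n → Fin n → ℕ} (TB : TabN D l J n r)
  {φ : SpecialLinearGroup (Fin n) K →* ↥(D.group K)} {s : Fin n → Fin n → K} (hs : ∀ a b, s a b ≠ 0)
  (hφ : ∀ a b (hab : a ≠ b) c, φ (transvection hab c) = xc hp (vec D l (r a b)) (s a b * c))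

include TB hφ

theorem phi_mem (A : SpecialLinearGroup (Fin n) K) :
    φ A ∈ LJ M.toCoxeterSystem hp.isCartan (TT D K) (XX D l K) {k | k ∈ J} := by
  have h1 : (⊤ : Subgroup (SpecialLinearGroup (Fin n) K)) ≤
      (LJ M.toCoxeterSystem hp.isCartan (TT D K) (XX D l K) {k | k ∈ J}).comap φ := by
    rw [← Cfsg.Agent.LieClassical.SLGen.closure_transvections, Subgroup.closure_le]
    rintro _ ⟨a, b, hab, c, rfl⟩
    change φ _ ∈ LJ M.toCoxeterSystem hp.isCartan (TT D K) (XX D l K) {k | k ∈ J}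
    rw [hφ]
    exact X_le_LJ (J := {k | k ∈ J}) (x := vec D l (r a b)) ⟨isRoot_vec hp _ (TB.rlt a b hab), TB.rJ a b hab⟩
      (mem_X hp (TB.rlt a b hab) _)
  exact h1 (Subgroup.mem_top A)

omit hφ in
include hp in
theorem TabN.lt_of {a b : Fin n} (hab : a ≠ b) (h0 : 0 ≤ vec D l (r a b)) : a < b := by
  rcases lt_or_gt_of_ne hab with h | h
  · exact h
  · exfalso
    have hr := TB.rlt a b hab
    refine (isRoot_vec hp M.toCoxeterSystem hr).ne_zero (le_antisymm ?_ h0)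
    intro k
    have h1 := TB.pos b a h k
    rw [TB.neg a b hab, vec_neg hp hr, Pi.neg_apply] at h1
    exact neg_nonneg.1 h1

include hs

theorem up_phi (x : Fin l → ℤ) (hx : x ∈ PosJ M.toCoxeterSystem hp.isCartan {k | k ∈ J}) :
    XX D l K x ≤ (UT n K).map φ := by
  obtain ⟨q, hq, rfl⟩ := (isRoot_iff hp _ x).1 hx.1
  obtain ⟨a, b, hab, rfl⟩ := TB.sub q hq hx.2.2
  have hlt := TB.lt_of hp hab hx.2.1
  intro y hy
  obtain ⟨c, rfl⟩ := (mem_XX hp hq y).1 hy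
  refine ⟨transvection hab ((s a b)⁻¹ * c), tv_mem_UT hab hlt _, ?_⟩
  rw [hφ, mul_inv_cancel_left₀ (hs a b)]

theorem lo_phi (x : Fin l → ℤ) (hx : x ∈ PosJ M.toCoxeterSystem hp.isCartan {k | k ∈ J}) :
    XX D l K (-x) ≤ (LT n K).map φ := by
  obtain ⟨q, hq, rfl⟩ := (isRoot_iff hp _ x).1 hx.1
  obtain ⟨a, b, hab, rfl⟩ := TB.sub q hq hx.2.2
  have hlt := TB.lt_of hp hab hx.2.1
  rw [← vec_neg hp hq, ← TB.neg a b hab]
  intro y hy
  obtain ⟨c, rfl⟩ := (mem_XX hp (TB.rlt b a hab.symm) y).1 hy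
  refine ⟨transvection hab.symm ((s b a)⁻¹ * c), tv_mem_LT hab.symm hlt _, ?_⟩
  rw [hφ, mul_inv_cancel_left₀ (hs b a)]

omit hs

theorem tv_up {a b : Fin n} (hab : a < b) (c : K) :
    φ (transvection hab.ne c) ∈ UJ M.toCoxeterSystem hp.isCartan (XX D l K) {k | k ∈ J} := by
  rw [hφ]
  exact RGD.le_Sup (S := PosJ M.toCoxeterSystem hp.isCartan {k | k ∈ J})
    ⟨isRoot_vec hp _ (TB.rlt a b hab.ne), TB.pos a b hab, TB.rJ a b hab.ne⟩ (mem_X hp (TB.rlt a b hab.ne) _)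

theorem tv_lo {a b : Fin n} (hab : b < a) (c : K) :
    φ (transvection hab.ne' c) ∈ UNJ M.toCoxeterSystem hp.isCartan (XX D l K) {k | k ∈ J} := by
  rw [hφ]
  refine RGD.le_Sup (S := {x | -x ∈ PosJ M.toCoxeterSystem hp.isCartan {k | k ∈ J}})
    (z := vec D l (r a b)) ?_ (mem_X hp (TB.rlt a b hab.ne') _)
  change -vec D l (r a b) ∈ PosJ M.toCoxeterSystem hp.isCartan {k | k ∈ J}
  rw [← vec_neg hp (TB.rlt a b hab.ne'), ← TB.neg a b hab.ne']
  exact ⟨isRoot_vec hp _ (TB.rlt b a hab.ne), TB.pos b a hab, TB.rJ b a hab.ne⟩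

omit TB in
include hp in
theorem tv_ne {a b : Fin n} (hab : a ≠ b) (hr : r a b < D.nroots) (hs : s a b ≠ 0) {c : K} (hc : c ≠ 0) :
    φ (transvection hab c) ≠ 1 := by
  intro h1
  rw [hφ, ← xc_zero hp hr] at h1
  exact (mul_ne_zero hs hc) (xc_inj hp hr h1)

end Blocks

/-! #### `SL₃` -/

section Three

theorem l01 : (0 : Fin 3) < 1 := by decide

theorem l02 : (0 : Fin 3) < 2 := by decide

theorem l12 : (1 : Fin 3) < 2 := by decide

theorem eq_up3 {B : SpecialLinearGroup (Fin 3) K} (hB : B ∈ UT 3 K) :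
    B = transvection l12.ne (B.1 1 2) * transvection l02.ne (B.1 0 2) *
      transvection l01.ne (B.1 0 1) := by
  rw [mem_UT] at hB
  apply Subtype.ext
  change B.1 = (1 + Matrix.single 1 2 (B.1 1 2)) * (1 + Matrix.single 0 2 (B.1 0 2)) * (1 + Matrix.single 0 1 (B.1 0 1))
  have h00 := hB.2 0
  have h11 := hB.2 1
  have h22 := hB.2 2
  have h10 : B.1 1 0 = 0 := hB.1 _ _ (by decide)
  have h20 : B.1 2 0 = 0 := hB.1 _ _ (by decide)
  have h21 : B.1 2 1 = 0 := hB.1 _ _ (by decide)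
  ext i j
  fin_cases i <;> fin_cases j <;>
    simp [Matrix.mul_apply, Fin.sum_univ_three, Matrix.single, h00, h11, h22, h10, h20, h21]

theorem eq_lo3 {B : SpecialLinearGroup (Fin 3) K} (hB : B ∈ LT 3 K) :
    B = transvection l01.ne' (B.1 1 0) * transvection l02.ne' (B.1 2 0) *
      transvection l12.ne' (B.1 2 1) := by
  rw [mem_LT] at hB
  apply Subtype.ext
  change B.1 = (1 + Matrix.single 1 0 (B.1 1 0)) * (1 + Matrix.single 2 0 (B.1 2 0)) * (1 + Matrix.single 2 1 (B.1 2 1))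
  have h00 := hB.2 0
  have h11 := hB.2 1
  have h22 := hB.2 2
  have h01 : B.1 0 1 = 0 := hB.1 _ _ (by decide)
  have h02 : B.1 0 2 = 0 := hB.1 _ _ (by decide)
  have h12 : B.1 1 2 = 0 := hB.1 _ _ (by decide)
  ext i j
  fin_cases i <;> fin_cases j <;>
    simp [Matrix.mul_apply, Fin.sum_univ_three, Matrix.single, h00, h11, h22, h01, h02, h12]

variable {J : List (Fin l)} {r : Fin 3 → Fin 3 → ℕ} (TB : TabN D l J 3 r)
  {φ : SpecialLinearGroup (Fin 3) K →* ↥(D.group K)} {s : Fin 3 → Fin 3 → K} (hs : ∀ a b, s a b ≠ 0)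
  (hφ : ∀ a b (hab : a ≠ b) c, φ (transvection hab c) = xc hp (vec D l (r a b)) (s a b * c))

include TB hs hφ

theorem ab_three : AB M.toCoxeterSystem hp.isCartan (TT D K) (XX D l K) {k | k ∈ J} φ (UT 3 K) (LT 3 K) where
  range := phi_mem hp TB hφ
  up := up_phi hp TB hs hφ
  lo := lo_phi hp TB hs hφ
  up' := by
    rintro _ ⟨B, hB, rfl⟩
    rw [eq_up3 hB, map_mul, map_mul]
    exact mul_mem (mul_mem (tv_up hp TB hφ l12 _) (tv_up hp TB hφ l02 _)) (tv_up hp TB hφ l01 _)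
  lo' := by
    rintro _ ⟨B, hB, rfl⟩
    rw [eq_lo3 hB, map_mul, map_mul]
    exact mul_mem (mul_mem (tv_lo hp TB hφ l01 _) (tv_lo hp TB hφ l02 _)) (tv_lo hp TB hφ l12 _)

omit hs in
theorem tv_VJ {a b : Fin 3} (hab : a < b) {k : Fin l} (hx : ∃ j, j ≠ k ∧ 0 < vec D l (r a b) j) (c : K) :
    φ (transvection hab.ne c) ∈ VJ M.toCoxeterSystem hp.isCartan (XX D l K) {k} := by
  rw [hφ]
  exact RGD.le_Sup (S := NotJ M.toCoxeterSystem hp.isCartan {k}) (z := vec D l (r a b))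
    ⟨isRoot_vec hp _ (TB.rlt a b hab.ne), TB.pos a b hab, hx⟩ (mem_X hp (TB.rlt a b hab.ne) _)

omit hs in
theorem tv_VNJ {a b : Fin 3} (hab : a < b) {k : Fin l} (hx : ∃ j, j ≠ k ∧ 0 < vec D l (r a b) j) (c : K) :
    φ (transvection hab.ne' c) ∈ VNJ M.toCoxeterSystem hp.isCartan (XX D l K) {k} := by
  rw [hφ]
  refine RGD.le_Sup (S := NotNJ M.toCoxeterSystem hp.isCartan {k}) (z := vec D l (r b a)) ?_
    (mem_X hp (TB.rlt b a hab.ne') _)
  change -vec D l (r b a) ∈ NotJ M.toCoxeterSystem hp.isCartan {k}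
  rw [← vec_neg hp (TB.rlt b a hab.ne'), ← TB.neg b a hab.ne']
  exact ⟨isRoot_vec hp _ (TB.rlt a b hab.ne), TB.pos a b hab, hx⟩

/-- the coordinate at the second simple root of an `SL₃` block -/
theorem crd_three {k : Fin l} (h12 : r 1 2 = D.simple k) (hx : ∃ j, j ≠ k ∧ 0 < vec D l (r 0 1) j)
    (hy : ∃ j, j ≠ k ∧ 0 < vec D l (r 0 2) j) :
    Crd M.toCoxeterSystem hp.isCartan (XX D l K) k φ (UT 3 K) (LT 3 K) (fun B => B.1 1 2 = 0) (fun B => B.1 2 1 = 0) := by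
  have tr : ∀ B ∈ UT 3 K, B.1 1 2 = 0 → φ B ∈ VJ M.toCoxeterSystem hp.isCartan (XX D l K) {k} := by
    intro B hB h0
    rw [eq_up3 hB, h0, map_mul, map_mul]
    refine mul_mem (mul_mem ?_ (tv_VJ hp TB hφ l02 hy _)) (tv_VJ hp TB hφ l01 hx _)
    rw [hφ, mul_zero, xc_zero hp (TB.rlt 1 2 (by decide))]
    exact one_mem _
  have ltr : ∀ B ∈ LT 3 K, B.1 2 1 = 0 → φ B ∈ VNJ M.toCoxeterSystem hp.isCartan (XX D l K) {k} := by
    intro B hB h0
    rw [eq_lo3 hB, h0, map_mul, map_mul]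
    refine mul_mem (mul_mem (tv_VNJ hp TB hφ l01 hx _) (tv_VNJ hp TB hφ l02 hy _)) ?_
    rw [hφ, mul_zero, xc_zero hp (TB.rlt 2 1 (by decide))]
    exact one_mem _
  refine ⟨tr, fun B hB h0 => ?_, ltr, fun B hB h0 => ?_⟩
  · refine ⟨transvection l12.ne (B.1 1 2), ?_, tv_ne hp hφ _ (TB.rlt 1 2 (by decide)) (hs 1 2) h0,
      tr _ (mul_mem (inv_mem (tv_mem_UT _ (by decide) _)) hB) ?_⟩
    · rw [hφ, h12, vec_simple hp k, ← vec_simple hp k]
      exact mem_X hp (simple_lt hp.inList (lt_rank hp k)) _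
    · rw [mem_UT] at hB
      rw [Matrix.SpecialLinearGroup.transvection_inv]
      change ((1 + Matrix.single 1 2 (-(B.1 1 2)) : Matrix (Fin 3) (Fin 3) K) * B.1) 1 2 = 0
      have h22 := hB.2 2
      simp [Matrix.mul_apply, Fin.sum_univ_three, Matrix.single, h22]
  · refine ⟨transvection l12.ne' (B.1 2 1), ?_, tv_ne hp hφ _ (TB.rlt 2 1 (by decide)) (hs 2 1) h0,
      ltr _ (mul_mem (inv_mem (tv_mem_LT _ (by decide) _)) hB) ?_⟩
    · have h1 := TB.neg 1 2 (by decide)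
      have h2 := simple_lt hp.inList (lt_rank hp k)
      rw [hφ, h1, h12, vec_neg hp h2, ← vec_neg hp h2]
      rw [← vec_simple hp k, ← vec_neg hp h2]
      exact mem_X hp (neg_lt hp.inList h2) _
    · rw [mem_LT] at hB
      rw [Matrix.SpecialLinearGroup.transvection_inv]
      change ((1 + Matrix.single 2 1 (-(B.1 2 1)) : Matrix (Fin 3) (Fin 3) K) * B.1) 2 1 = 0
      have h11 := hB.2 1
      simp [Matrix.mul_apply, Fin.sum_univ_three, Matrix.single, h11]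

end Three

/-! #### `SL₂` -/

section Two

theorem m01 : (0 : Fin 2) < 1 := by decide

theorem tv_uu (c : K) : transvection m01.ne c = (uu c : SpecialLinearGroup (Fin 2) K) := by
  apply Subtype.ext
  ext i j
  fin_cases i <;> fin_cases j <;> simp [Matrix.SpecialLinearGroup.transvection, Matrix.transvection, uu]

theorem tv_vv (c : K) : transvection m01.ne' c = (vv c : SpecialLinearGroup (Fin 2) K) := by
  apply Subtype.ext
  ext i j
  fin_cases i <;> fin_cases j <;> simp [Matrix.SpecialLinearGroup.transvection, Matrix.transvection, vv]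

theorem eq_up2 {B : SpecialLinearGroup (Fin 2) K} (hB : B ∈ UT 2 K) : B = transvection m01.ne (B.1 0 1) := by
  rw [mem_UT] at hB
  rw [tv_uu]
  apply Subtype.ext
  have h00 := hB.2 0
  have h11 := hB.2 1
  have h10 : B.1 1 0 = 0 := hB.1 _ _ (by decide)
  ext i j
  fin_cases i <;> fin_cases j <;> simp [uu, h00, h11, h10]

theorem eq_lo2 {B : SpecialLinearGroup (Fin 2) K} (hB : B ∈ LT 2 K) : B = transvection m01.ne' (B.1 1 0) := by
  rw [mem_LT] at hB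
  rw [tv_vv]
  apply Subtype.ext
  have h00 := hB.2 0
  have h11 := hB.2 1
  have h01 : B.1 0 1 = 0 := hB.1 _ _ (by decide)
  ext i j
  fin_cases i <;> fin_cases j <;> simp [vv, h00, h11, h01]

/-- the table of a node -/
def nd (D : ChevalleyDatum) (i : ℕ) : Fin 2 → Fin 2 → ℕ := ![![0, D.simple i], ![D.neg (D.simple i), 0]]

/-- the homomorphism of a node -/
theorem sl_tv (i : Fin l) (a b : Fin 2) (hab : a ≠ b) (c : K) :
    sl hp i (transvection hab c) = xc hp (vec D l (nd D i a b)) ((fun _ _ => (1 : K)) a b * c) := by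
  rw [one_mul]
  fin_cases a <;> fin_cases b
  · exact absurd rfl hab
  · change sl hp i (transvection m01.ne c) = xc hp (vec D l (D.simple i)) c
    rw [tv_uu, sl_uu, vec_simple hp i]
  · change sl hp i (transvection m01.ne' c) = xc hp (vec D l (D.neg (D.simple i))) c
    rw [tv_vv, sl_vv, vec_neg hp (simple_lt hp.inList (lt_rank hp i)), vec_simple hp i]
  · exact absurd rfl hab

variable {J : List (Fin l)} {r : Fin 2 → Fin 2 → ℕ} (TB : TabN D l J 2 r)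
  {φ : SpecialLinearGroup (Fin 2) K →* ↥(D.group K)} {s : Fin 2 → Fin 2 → K} (hs : ∀ a b, s a b ≠ 0)
  (hφ : ∀ a b (hab : a ≠ b) c, φ (transvection hab c) = xc hp (vec D l (r a b)) (s a b * c))

include hs hφ

include TB in
theorem ab_two : AB M.toCoxeterSystem hp.isCartan (TT D K) (XX D l K) {k | k ∈ J} φ (UT 2 K) (LT 2 K) where
  range := phi_mem hp TB hφ
  up := up_phi hp TB hs hφ
  lo := lo_phi hp TB hs hφ
  up' := by
    rintro _ ⟨B, hB, rfl⟩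
    rw [eq_up2 hB]
    exact tv_up hp TB hφ m01 _
  lo' := by
    rintro _ ⟨B, hB, rfl⟩
    rw [eq_lo2 hB]
    exact tv_lo hp TB hφ m01 _

/-- the coordinate of an `SL₂` block -/
theorem crd_two {k : Fin l} (h01 : r 0 1 = D.simple k) (h10 : r 1 0 = D.neg (D.simple k)) :
    Crd M.toCoxeterSystem hp.isCartan (XX D l K) k φ (UT 2 K) (LT 2 K) (fun B => B.1 0 1 = 0) (fun B => B.1 1 0 = 0) := by
  have h2 := simple_lt hp.inList (lt_rank hp k)
  have h3 := neg_lt hp.inList h2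
  refine ⟨fun B hB h0 => ?_, fun B hB h0 => ?_, fun B hB h0 => ?_, fun B hB h0 => ?_⟩
  · rw [eq_up2 hB, hφ, h0, mul_zero, h01, xc_zero hp h2]
    exact one_mem _
  · refine ⟨B, ?_, ?_, ?_⟩
    · rw [eq_up2 hB, hφ, h01, vec_simple hp k, ← vec_simple hp k]
      exact mem_X hp h2 _
    · rw [eq_up2 hB]
      exact tv_ne hp hφ _ (by rw [h01]; exact h2) (hs 0 1) h0
    · rw [inv_mul_cancel, map_one]
      exact one_mem _
  · rw [eq_lo2 hB, hφ, h0, mul_zero, h10, xc_zero hp h3]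
    exact one_mem _
  · refine ⟨B, ?_, ?_, ?_⟩
    · rw [eq_lo2 hB, hφ, h10, ← vec_simple hp k, ← vec_neg hp h2]
      exact mem_X hp h3 _
    · rw [eq_lo2 hB]
      exact tv_ne hp hφ _ (by rw [h10]; exact h3) (hs 1 0) h0
    · rw [inv_mul_cancel, map_one]
      exact one_mem _

end Two

/-! #### The end -/

/-- from the elements outside the core to all elements -/
theorem all_of [Finite K] (p : ℕ) [Fact p.Prime] [CharP K p] [Nonempty (Fin l)]
    (hG : IsSimpleGroup ↥(D.group K) ∧ ¬ IsMulCommutative ↥(D.group K)) {P : ↥(D.group K) → Prop}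
    (h : ∀ g, g ∉ (RGD.B M.toCoxeterSystem hp.isCartan (TT D K) (XX D l K)).normalCore ∨ g = 1 → P g) (g : ↥(D.group K)) :
    P g := by
  have := hG.1
  have := finite_W hp M.toCoxeterSystem
  refine h g ?_
  by_cases hg : g = 1
  · exact .inr hg
  · refine .inl fun h1 => hg ?_
    have h2 := core_le_ker (rgd (K := K) hp M.toCoxeterSystem p) (MonoidHom.id ↥(D.group K)) Function.surjective_id
      (fun x hx => by
        rw [MonoidHom.mem_ker] at hx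
        change x = 1 at hx
        rw [hx]
        exact one_mem _) h1
    exact h2

end

end Cfsg.Agent.H584.Ore.Build
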