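import Cfsg.Agent.H584.Ore.Build
import Cfsg.Agent.H777.Ore.Base
import Cfsg.Agent.S1054
import Cfsg.Agent.ChevalleyStructure.FieldIso

/-!
# `E₆(2)` : every element is a commutator and a product of four elements of square one (S2443, S4171)

`J` = nodes `{3, 1}`, `{0}`, `{5}` (block `SL₃ × SL₂ × SL₂`), `K` = nodes `{2, 0}`, `{4, 5}` (block `SL₃ × SL₃`),
side condition at the nodes `0` and `5`.
-/

set_option autoImplicit false
set_option linter.unusedSectionVars false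

namespace Cfsg.Agent.H584.Ore.ESix

open CoxeterSystem Cfsg.Agent.ChevalleyStructure.CoxeterGeom Cfsg.Agent.Tits.Roots Cfsg.Agent.Tits.Core
  Cfsg.Agent.Nodes.Reps
  Cfsg.Agent.Nodes.BNOf Cfsg.Agent.Nodes.StabComb
  Cfsg.Agent.Nodes.RGDLib Cfsg.Agent.Nodes.Bruhat Cfsg.Agent.Nodes.OppDec Cfsg.Agent.Nodes.LeviDec
  Cfsg.Agent.OddHalf.NI.Mult
  Cfsg.Agent.H162.GaussDec Cfsg.Agent.H162.GaussLevi Cfsg.Agent.H584.Ore.Engine Cfsg.Agent.H584.Ore.Par
  Cfsg.Agent.H584.Ore.Build Cfsg.Agent.H584.Ore.Tab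
open Cfsg.Lie Cfsg.Agent.ChevalleyStructure Cfsg.Agent.ChevalleyStructure.Elts
  Cfsg.Agent.ChevalleyStructure.RootVec Cfsg.Agent.ChevalleyStructure.NPerm
  Cfsg.Agent.ChevalleyStructure.CoxeterGeomTypes Cfsg.Agent.Nodes.RGDChev Cfsg.Agent.KFacts.RgdChevCoord
  Cfsg.Agent.Nodes.KindChev Cfsg.Agent.Nodes.ChevCls Cfsg.Agent.OddHalf.NI.ModelChev
  Cfsg.Agent.H162.GaussSL Cfsg.Agent.H162.GaussReg Cfsg.Agent.H162.GaussExc Cfsg.Agent.H162.GaussMain
  Cfsg.Agent.H162.GaussPQ Cfsg.Agent.H162.GaussExcMain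
open Cfsg.Agent.TitsThree.KExcRT Cfsg.Agent.Nodes.KindE
open Matrix (SpecialLinearGroup)
open Matrix.SpecialLinearGroup (transvection)

/-- the nodes `2`, `0` -/
def rA : Fin 3 → Fin 3 → ℕ := ![![0, 42, 57], ![29, 0, 56], ![14, 15, 0]]

/-- the nodes `4`, `5` -/
def rB : Fin 3 → Fin 3 → ℕ := ![![0, 37, 38], ![34, 0, 36], ![33, 35, 0]]

theorem chkJ1 : ChkN chevE6 6 [3, 1] 3 r6 := by decide +kernel

theorem chkJ2 : ChkN chevE6 6 [0] 2 (nd chevE6 0) := by decide +kernel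

theorem chkJ3 : ChkN chevE6 6 [5] 2 (nd chevE6 5) := by decide +kernel

theorem chkA : ChkN chevE6 6 [2, 0] 3 rA := by decide +kernel

theorem chkB : ChkN chevE6 6 [4, 5] 3 rB := by decide +kernel

theorem o1 : Orth chevE6 (nd chevE6 0) (nd chevE6 5) := by decide +kernel

theorem o2 : Orth chevE6 r6 (nd chevE6 0) := by decide +kernel

theorem o3 : Orth chevE6 r6 (nd chevE6 5) := by decide +kernel

theorem o4 : Orth chevE6 rA rB := by decide +kernel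

theorem s1 : Split chevE6 6 [3, 1, 0, 5] [3, 1] [0, 5] := by decide +kernel

theorem s2 : Split chevE6 6 [0, 5] [0] [5] := by decide +kernel

theorem s3 : Split chevE6 6 [2, 0, 4, 5] [2, 0] [4, 5] := by decide +kernel

theorem rtA : RTa chevE6 rA ∧ (RTb chevE6 rA fun _ _ => 1) ∧ RTc chevE6 rA ∧
    ∀ i j, i ≠ j → rA j i = chevE6.neg (rA i j) := by decide +kernel

theorem rtB : RTa chevE6 rB ∧ (RTb chevE6 rB fun _ _ => -1) ∧ RTc chevE6 rB ∧
    ∀ i j, i ≠ j → rB j i = chevE6.neg (rB i j) := by decide +kernel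

theorem sA : rA 1 2 = chevE6.simple 0 ∧ rB 1 2 = chevE6.simple 5 ∧
    (∃ j : Fin 6, j ≠ 0 ∧ 0 < vec chevE6 6 (rA 0 1) j) ∧ (∃ j : Fin 6, j ≠ 0 ∧ 0 < vec chevE6 6 (rA 0 2) j) ∧
    (∃ j : Fin 6, j ≠ 5 ∧ 0 < vec chevE6 6 (rB 0 1) j) ∧ (∃ j : Fin 6, j ≠ 5 ∧ 0 < vec chevE6 6 (rB 0 2) j) := by
  decide +kernel

section

variable {φ : SpecialLinearGroup (Fin 3) (ZMod 2) →* ↥(chevE6.group (ZMod 2))}
  (hφ : ∀ a b (hab : a ≠ b) c, φ (transvection hab c) = xc isType6 (vec chevE6 6 (r6 a b)) (((1 : ℤ) : ZMod 2) * c))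

include hφ

/-- **The square theorem for `E₆(2)`** from the fixed points and the reality of `c₀`. -/
theorem square {z : ↥(chevE6.group (ZMod 2))}
    (hz : z * (φ XX0 * (sl isType6 0 w * sl isType6 5 w)) * z⁻¹ = (φ XX0 * (sl isType6 0 w * sl isType6 5 w))⁻¹)
    (hP : ∀ x ∈ VJ CoxeterMatrix.E₆.toCoxeterSystem isType6.isCartan (XX chevE6 6 (ZMod 2)) {0, 1, 3, 5},
      (φ XX0 * (sl isType6 0 w * sl isType6 5 w)) * x * (φ XX0 * (sl isType6 0 w * sl isType6 5 w))⁻¹ = x → x = 1)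
    (hN : ∀ x ∈ VNJ CoxeterMatrix.E₆.toCoxeterSystem isType6.isCartan (XX chevE6 6 (ZMod 2)) {0, 1, 3, 5},
      (φ XX0 * (sl isType6 0 w * sl isType6 5 w)) * x * (φ XX0 * (sl isType6 0 w * sl isType6 5 w))⁻¹ = x → x = 1)
    (g : ↥(chevE6.group (ZMod 2))) : ∃ x y : ↥(chevE6.group (ZMod 2)),
      g = (x * (φ XX0 * (sl isType6 0 w * sl isType6 5 w)) * x⁻¹) * (y * (φ XX0 * (sl isType6 0 w * sl isType6 5 w)) * y⁻¹) := by
  have := finite_W isType6 CoxeterMatrix.E₆.toCoxeterSystem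
  have eJ : ({0, 1, 3, 5} : Set (Fin 6)) = {k | k ∈ ([3, 1, 0, 5] : List (Fin 6))} := by
    ext k
    fin_cases k <;> simp
  rw [eJ] at hP hN
  -- the homomorphisms
  obtain ⟨φA, hφA⟩ := exists_hom_D isType6 (K := ZMod 2) (ε := 1) (by norm_num) rtA.1 rtA.2.1 rtA.2.2.1 rtA.2.2.2
  obtain ⟨φB, hφB⟩ := exists_hom_D isType6 (K := ZMod 2) (ε := -1) (by norm_num) rtB.1 rtB.2.1 rtB.2.2.1 rtB.2.2.2
  have hs1 : ∀ a b : Fin 3, (fun _ _ : Fin 3 => ((1 : ℤ) : ZMod 2)) a b ≠ 0 := fun _ _ =>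
    (by decide : ((1 : ℤ) : ZMod 2) ≠ 0)
  have hs2 : ∀ a b : Fin 3, (fun _ _ : Fin 3 => ((-1 : ℤ) : ZMod 2)) a b ≠ 0 := fun _ _ =>
    (by decide : ((-1 : ℤ) : ZMod 2) ≠ 0)
  have hs3 : ∀ a b : Fin 2, (fun _ _ : Fin 2 => (1 : ZMod 2)) a b ≠ 0 := fun _ _ => one_ne_zero
  have T1 := chkJ1.tab
  have T2 := chkJ2.tab
  have T3 := chkJ3.tab
  have TA := chkA.tab
  have TB := chkB.tab
  have hφ' : ∀ a b (hab : a ≠ b) c, φ (transvection hab c) =
      xc isType6 (vec chevE6 6 (r6 a b)) ((fun _ _ : Fin 3 => ((1 : ℤ) : ZMod 2)) a b * c) := hφ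
  have hφA' : ∀ a b (hab : a ≠ b) c, φA (transvection hab c) =
      xc isType6 (vec chevE6 6 (rA a b)) ((fun _ _ : Fin 3 => ((1 : ℤ) : ZMod 2)) a b * c) := hφA
  have hφB' : ∀ a b (hab : a ≠ b) c, φB (transvection hab c) =
      xc isType6 (vec chevE6 6 (rB a b)) ((fun _ _ : Fin 3 => ((-1 : ℤ) : ZMod 2)) a b * c) := hφB
  have D1 := ab_three isType6 T1 hs1 hφ'
  have D2 := ab_two isType6 T2 hs3 (sl_tv isType6 0)
  have D3 := ab_two isType6 T3 hs3 (sl_tv isType6 5)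
  have DA := ab_three isType6 TA hs1 hφA'
  have DB := ab_three isType6 TB hs2 hφB'
  have c05 := comm_blocks isType6 T2.rlt T3.rlt o1 (sl_tv isType6 (K := ZMod 2) 0) (sl_tv isType6 5)
  have c10 := comm_blocks isType6 T1.rlt T2.rlt o2 hφ' (sl_tv isType6 0)
  have c15 := comm_blocks isType6 T1.rlt T3.rlt o3 hφ' (sl_tv isType6 5)
  have cAB := comm_blocks isType6 TA.rlt TB.rlt o4 hφA' hφB'
  have cJ : ∀ a b, Commute (φ a) ((sl isType6 0).noncommCoprod (sl isType6 5) c05 b) := fun a b => by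
    rw [MonoidHom.noncommCoprod_apply]
    exact (c10 a b.1).mul_right (c15 a b.2)
  have D23 := ab_prod (J := {k | k ∈ ([0, 5] : List (Fin 6))}) c05 D2 D3
    (by intro k; simp only [Set.mem_ofPred_eq, List.mem_cons, List.not_mem_nil, or_false]; intro h; exact .inl h)
    (by intro k; simp only [Set.mem_ofPred_eq, List.mem_cons, List.not_mem_nil, or_false]; intro h; exact .inr h)
    (s2.pos isType6)
  have DJ := ab_prod (J := {k | k ∈ ([3, 1, 0, 5] : List (Fin 6))}) cJ D1 D23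
    (by
      intro k
      simp only [Set.mem_ofPred_eq, List.mem_cons, List.not_mem_nil, or_false]
      rintro (h | h)
      · exact .inl h
      · exact .inr (.inl h))
    (by
      intro k
      simp only [Set.mem_ofPred_eq, List.mem_cons, List.not_mem_nil, or_false]
      intro h; exact .inr (.inr h))
    (s1.pos isType6)
  have DK := ab_prod (J := {k | k ∈ ([2, 0, 4, 5] : List (Fin 6))}) cAB DA DB
    (by
      intro k
      simp only [Set.mem_ofPred_eq, List.mem_cons, List.not_mem_nil, or_false]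
      rintro (h | h)
      · exact .inl h
      · exact .inr (.inl h))
    (by
      intro k
      simp only [Set.mem_ofPred_eq, List.mem_cons, List.not_mem_nil, or_false]
      intro h; exact .inr (.inr h))
    (s3.pos isType6)
  -- the coordinates
  have n05 : (0 : Fin 6) ∉ {k | k ∈ ([5] : List (Fin 6))} := by decide
  have n50 : (5 : Fin 6) ∉ {k | k ∈ ([0] : List (Fin 6))} := by decide
  have n0 : (0 : Fin 6) ∉ {k | k ∈ ([3, 1] : List (Fin 6))} := by decide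
  have n5 : (5 : Fin 6) ∉ {k | k ∈ ([3, 1] : List (Fin 6))} := by decide
  have n0B : (0 : Fin 6) ∉ {k | k ∈ ([4, 5] : List (Fin 6))} := by decide
  have n5A : (5 : Fin 6) ∉ {k | k ∈ ([2, 0] : List (Fin 6))} := by decide
  have CJ0 := crd_inr cJ (crd_inl c05 (crd_two isType6 hs3 (sl_tv isType6 (K := ZMod 2) 0) (k := 0) rfl rfl) D3 n05) D1 n0
  have CJ5 := crd_inr cJ (crd_inr c05 (crd_two isType6 hs3 (sl_tv isType6 (K := ZMod 2) 5) (k := 5) rfl rfl) D2 n50) D1 n5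
  have CK0 := crd_inl cAB (crd_three isType6 TA hs1 hφA' (k := 0) sA.1 sA.2.2.1 sA.2.2.2.1) DB n0B
  have CK5 := crd_inr cAB (crd_three isType6 TB hs2 hφB' (k := 5) sA.2.1 sA.2.2.2.2.1 sA.2.2.2.2.2) DA n5A
  have h0 : ((φ.noncommCoprod ((sl isType6 0).noncommCoprod (sl isType6 5) c05) cJ) (XX0, (w, w)) :
      ↥(chevE6.group (ZMod 2))) = φ XX0 * (sl isType6 0 w * sl isType6 5 w) := by
    rw [MonoidHom.noncommCoprod_apply, MonoidHom.noncommCoprod_apply]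
  rw [← h0] at hz hP hN ⊢
  refine all_of isType6 2 (Cfsg.Agent.S1054.result chevE6 (by simp)) (P := fun g => ∃ x y : ↥(chevE6.group (ZMod 2)),
    g = (x * (φ.noncommCoprod ((sl isType6 0).noncommCoprod (sl isType6 5) c05) cJ) (XX0, (w, w)) * x⁻¹) *
      (y * (φ.noncommCoprod ((sl isType6 0).noncommCoprod (sl isType6 5) c05) cJ) (XX0, (w, w)) * y⁻¹)) (fun g hg => ?_) g
  refine square_par (rgd (K := ZMod 2) isType6 CoxeterMatrix.E₆.toCoxeterSystem 2) (G1_eq_top isType6 _)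
    (coord isType6) (Cfsg.Agent.Nodes.ChevChart.irr_of Cfsg.Agent.Nodes.ChevChart.irr6) (S := {0, 5}) ?_ ?_ DJ DK
    (ZU := fun k B => if k = 0 then B.2.1.1 0 1 = 0 else B.2.2.1 0 1 = 0)
    (ZL := fun k B => if k = 0 then B.2.1.1 1 0 = 0 else B.2.2.1 1 0 = 0)
    (ZU' := fun k B => if k = 0 then B.1.1 1 2 = 0 else B.2.1 1 2 = 0)
    (ZL' := fun k B => if k = 0 then B.1.1 2 1 = 0 else B.2.1 2 1 = 0) ?_ ?_ ?_ (c₀ := (XX0, (w, w))) ?_ hP hN ⟨z, hz⟩ hg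
  · rintro k (rfl | rfl) <;> decide
  · rintro k (rfl | rfl) <;> decide
  · rintro k (rfl | rfl)
    · exact CJ0
    · exact CJ5
  · rintro k (rfl | rfl)
    · exact CK0
    · exact CK5
  · rintro ⟨L, L'⟩ ⟨hL, hL'⟩ ⟨U, U'⟩ ⟨hU, hU'⟩
    obtain ⟨y, L₁, hL₁, U₁, hU₁, e1, e2⟩ := parity hL hU
    obtain ⟨y', L₂, hL₂, U₂, hU₂, e3, e4⟩ := parity hL' hU'
    refine ⟨(y, y'), (L₁, L₂), ⟨hL₁, hL₂⟩, (U₁, U₂), ⟨hU₁, hU₂⟩, Prod.ext e1 e3, ?_⟩
    rintro k (rfl | rfl)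
    · exact e2
    · exact e4
  · rintro ⟨L, l, l'⟩ ⟨hL, hl, hl'⟩ ⟨U, u, u'⟩ ⟨hU, hu, hu'⟩ hpar
    exact prod_pair real_ww hL hU (prod_three_two hl hu (hpar 0 (.inl rfl)) hl' hu' (hpar 5 (.inr rfl)))

end

/-! ### From the square to the two statements -/

section

variable {G : Type*} [Group G] {c z : G} (hz : z * c * z⁻¹ = c⁻¹) (h : ∀ g : G, ∃ x y : G, g = (x * c * x⁻¹) * (y * c * y⁻¹))

include hz h

theorem allC_of : Cfsg.Agent.H777.Ore.AllC G := by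
  intro g
  obtain ⟨x, y, e⟩ := h g
  refine ⟨x * c * x⁻¹, y * z⁻¹ * x⁻¹, ?_⟩
  have h1 : c = z⁻¹ * c⁻¹ * z := by rw [← hz]; group
  rw [e]
  calc x * c * x⁻¹ * (y * c * y⁻¹) = x * c * x⁻¹ * (y * (z⁻¹ * c⁻¹ * z) * y⁻¹) := by rw [← h1]
    _ = _ := by group

theorem inv4_of (hz2 : z * z = 1) : Cfsg.Agent.H777.Ore.Inv4 G := by
  intro g
  obtain ⟨x, y, e⟩ := h g
  have hzi : z⁻¹ = z := inv_eq_of_mul_eq_one_left hz2
  have h1 : (z * c) * (z * c) = 1 := by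
    calc (z * c) * (z * c) = (z * c * z⁻¹) * (z * z) * c := by group
      _ = 1 := by rw [hz, hz2]; group
  refine ⟨x * z * x⁻¹, x * (z * c) * x⁻¹, y * z * y⁻¹, y * (z * c) * y⁻¹, ?_, ?_, ?_, ?_, ?_⟩
  · calc x * z * x⁻¹ * (x * z * x⁻¹) = x * (z * z) * x⁻¹ := by group
      _ = 1 := by rw [hz2]; group
  · calc x * (z * c) * x⁻¹ * (x * (z * c) * x⁻¹) = x * ((z * c) * (z * c)) * x⁻¹ := by group
      _ = 1 := by rw [h1]; group
  · calc y * z * y⁻¹ * (y * z * y⁻¹) = y * (z * z) * y⁻¹ := by group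
      _ = 1 := by rw [hz2]; group
  · calc y * (z * c) * y⁻¹ * (y * (z * c) * y⁻¹) = y * ((z * c) * (z * c)) * y⁻¹ := by group
      _ = 1 := by rw [h1]; group
  · rw [e]
    calc x * c * x⁻¹ * (y * c * y⁻¹) = x * ((z * z) * c) * x⁻¹ * (y * ((z * z) * c) * y⁻¹) := by rw [hz2, one_mul]
      _ = _ := by group

end

/-- every field with two elements -/
theorem exists_iso {K : Type*} [Field K] (hK : Nat.card K = 2) : Nonempty (ZMod 2 ≃+* K) := by
  have : Finite K := Nat.finite_of_card_ne_zero (by rw [hK]; exact two_ne_zero)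
  have := Fintype.ofFinite K
  exact ⟨ZMod.ringEquivOfPrime K Nat.prime_two (by rw [← Nat.card_eq_fintype_card, hK])⟩

theorem allC_congr (D : ChevalleyDatum) {K : Type*} [Field K] (hK : Nat.card K = 2)
    (h : Cfsg.Agent.H777.Ore.AllC ↥(D.group (ZMod 2))) : Cfsg.Agent.H777.Ore.AllC ↥(D.group K) := by
  obtain ⟨e⟩ := exists_iso hK
  exact h.congr (Cfsg.Agent.ChevalleyStructure.FieldIso.groupEquiv D e)

theorem inv4_congr (D : ChevalleyDatum) {K : Type*} [Field K] (hK : Nat.card K = 2)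
    (h : Cfsg.Agent.H777.Ore.Inv4 ↥(D.group (ZMod 2))) : Cfsg.Agent.H777.Ore.Inv4 ↥(D.group K) := by
  obtain ⟨e⟩ := exists_iso hK
  intro g
  obtain ⟨a, b, c, d, ha, hb, hc, hd, e1⟩ := h ((Cfsg.Agent.ChevalleyStructure.FieldIso.groupEquiv D e).symm g)
  let f := (Cfsg.Agent.ChevalleyStructure.FieldIso.groupEquiv D e)
  have h1 : ∀ x : ↥(D.group (ZMod 2)), x * x = 1 → f x * f x = 1 := fun x hx => by rw [← map_mul, hx, map_one]
  refine ⟨f a, f b, f c, f d, h1 a ha, h1 b hb, h1 c hc, h1 d hd, ?_⟩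
  rw [← map_mul, ← map_mul, ← map_mul, ← e1]
  exact (f.apply_symm_apply g).symm

end Cfsg.Agent.H584.Ore.ESix
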