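import Cfsg.Agent.H162.GaussMain

/-!
# The engine of the exceptional half of Ore's conjecture (S2443) and of S4171

* `two_class` : if every `v u` (`v ∈ U_J⁻`, `u ∈ U_J`, with a side condition `Q v u` which can be reached by conjugation)
  is a product `c₁ c₂` of elements of `L_J`, `c₁` without fixed points on `V_J⁻`, `c₂` without fixed points on `V_J`,
  then every element outside the core of `B` is `(x c₁ x⁻¹) (y c₂ y⁻¹)`.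
* `ore` : Ore form.
* `Parity` : the side condition "`v` and `u` have both trivial or both nontrivial component in `X_{-k}`, `X_k`".
-/

set_option autoImplicit false
set_option linter.unusedSectionVars false

namespace Cfsg.Agent.H584.Ore.Engine

open CoxeterSystem Cfsg.Agent.ChevalleyStructure.CoxeterGeom Cfsg.Agent.Tits.Roots Cfsg.Agent.Tits.Core
  Cfsg.Agent.Nodes.Reps
  Cfsg.Agent.Nodes.BNOf Cfsg.Agent.Nodes.StabComb
  Cfsg.Agent.Nodes.RGDLib Cfsg.Agent.Nodes.Bruhat Cfsg.Agent.Nodes.OppDec Cfsg.Agent.Nodes.LeviDec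
  Cfsg.Agent.OddHalf.NI.Mult
  Cfsg.Agent.H162.GaussDec Cfsg.Agent.H162.GaussLevi

variable {I W Y : Type*} [Fintype I] [DecidableEq I] [Group W] [Group Y] {M : CoxeterMatrix I}
  {cs : CoxeterSystem M W} {A : I → I → ℤ} {h : IsCartan M A} {p : ℕ} {T : Subgroup Y} {n : I → Y}
  {X : (I → ℤ) → Subgroup Y}

/-- `c` lies in the Levi subgroup and has no fixed points on the unipotent radical `V_J` -/
structure Pos (cs : CoxeterSystem M W) (h : IsCartan M A) (T : Subgroup Y) (X : (I → ℤ) → Subgroup Y) (J : Set I)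
    (c : Y) : Prop where
  mem : c ∈ LJ cs h T X J
  fix : ∀ x ∈ VJ cs h X J, c * x * c⁻¹ = x → x = 1

/-- `c` lies in the Levi subgroup and has no fixed points on the opposite unipotent radical `V_J⁻` -/
structure Neg (cs : CoxeterSystem M W) (h : IsCartan M A) (T : Subgroup Y) (X : (I → ℤ) → Subgroup Y) (J : Set I)
    (c : Y) : Prop where
  mem : c ∈ LJ cs h T X J
  fix : ∀ x ∈ VNJ cs h X J, c * x * c⁻¹ = x → x = 1

section basic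

theorem fix_conj {V : Subgroup Y} {c k : Y} (hk : k ∈ Subgroup.normalizer (V : Set Y))
    (hf : ∀ x ∈ V, c * x * c⁻¹ = x → x = 1) : ∀ x ∈ V, (k * c * k⁻¹) * x * (k * c * k⁻¹)⁻¹ = x → x = 1 := by
  intro x hx hcx
  have h1 : k⁻¹ * x * k ∈ V := by
    have h2 := (Subgroup.mem_normalizer_iff.1 (inv_mem hk) x).1 hx
    rwa [inv_inv] at h2
  have h2 : k⁻¹ * x * k = 1 := by
    refine hf _ h1 ?_
    calc c * (k⁻¹ * x * k) * c⁻¹ = k⁻¹ * ((k * c * k⁻¹) * x * (k * c * k⁻¹)⁻¹) * k := by group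
      _ = _ := by rw [hcx]
  have h3 : x = k * (k⁻¹ * x * k) * k⁻¹ := by group
  rw [h3, h2, mul_one, mul_inv_cancel]

theorem fix_inv {V : Subgroup Y} {c : Y} (hf : ∀ x ∈ V, c * x * c⁻¹ = x → x = 1) :
    ∀ x ∈ V, c⁻¹ * x * c⁻¹⁻¹ = x → x = 1 := by
  intro x hx hcx
  refine hf x hx ?_
  rw [inv_inv] at hcx
  calc c * x * c⁻¹ = c * (c⁻¹ * x * c) * c⁻¹ := by rw [hcx]
    _ = x := by group

/-- no fixed points of a power: no fixed points -/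
theorem fix_of_pow {V : Subgroup Y} {c : Y} (k : ℕ) (hf : ∀ x ∈ V, c ^ k * x * (c ^ k)⁻¹ = x → x = 1) :
    ∀ x ∈ V, c * x * c⁻¹ = x → x = 1 :=
  fun x hx hcx => hf x hx (Cfsg.Agent.H162.GaussMain.conj_pow_fix hcx k)

end basic

section

variable (R : RGD cs h p T n X)

include R

theorem Pos.conj [Finite W] {J : Set I} {c k : Y} (hc : Pos cs h T X J c) (hk : k ∈ LJ cs h T X J) :
    Pos cs h T X J (k * c * k⁻¹) :=
  ⟨mul_mem (mul_mem hk hc.mem) (inv_mem hk), fix_conj (LJ_le_normalizer_VJ R J hk) hc.fix⟩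

theorem Neg.conj [Finite W] {J : Set I} {c k : Y} (hc : Neg cs h T X J c) (hk : k ∈ LJ cs h T X J) :
    Neg cs h T X J (k * c * k⁻¹) :=
  ⟨mul_mem (mul_mem hk hc.mem) (inv_mem hk), fix_conj (LJ_le_normalizer_VNJ R J hk) hc.fix⟩

omit R in
theorem Pos.inv {J : Set I} {c : Y} (hc : Pos cs h T X J c) : Pos cs h T X J c⁻¹ :=
  ⟨inv_mem hc.mem, fix_inv hc.fix⟩

omit R in
theorem Neg.inv {J : Set I} {c : Y} (hc : Neg cs h T X J c) : Neg cs h T X J c⁻¹ :=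
  ⟨inv_mem hc.mem, fix_inv hc.fix⟩

/-- **From the Levi subgroup to the group**, two classes, one element -/
theorem step [Finite W] [Finite Y] {J : Set I} {g vL uL c₁ c₂ vP uP : Y} (hvP : vP ∈ VNJ cs h X J)
    (huP : uP ∈ VJ cs h X J) (hg : g = vP * vL * (uL * uP)) (hc : vL * uL = c₁ * c₂)
    (h1 : Neg cs h T X J c₁) (h2 : Pos cs h T X J c₂) :
    ∃ x y : Y, g = (x * c₁ * x⁻¹) * (y * c₂ * y⁻¹) := by
  obtain ⟨a, ha, e1⟩ := exists_conj_of_fix R (LJ_le_normalizer_VNJ R J h1.mem) h1.fix hvP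
  have huP' : c₂ * uP * c₂⁻¹ ∈ VJ cs h X J :=
    (Subgroup.mem_normalizer_iff.1 (LJ_le_normalizer_VJ R J h2.mem) uP).1 huP
  obtain ⟨b, hb, e2⟩ := exists_conj_of_fix R (LJ_le_normalizer_VJ R J h2.mem) h2.fix huP'
  refine ⟨a, b, ?_⟩
  rw [hg, ← e1, ← e2]
  calc vP * vL * (uL * uP) = vP * (vL * uL) * uP := by group
    _ = vP * c₁ * (c₂ * uP * c₂⁻¹ * c₂) := by rw [hc]; group

/-- **From the Levi subgroup to the group**, two classes. `P` is the wanted relation between the classes. -/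
theorem two_aux [Finite W] [Finite Y] {J : Set I} {P Q : Y → Y → Prop}
    (hb : ∀ v ∈ UNJ cs h X J, ∀ u ∈ UJ cs h X J, Q v u → ∃ c₁ c₂, v * u = c₁ * c₂ ∧ Neg cs h T X J c₁ ∧
      Pos cs h T X J c₂ ∧ P c₁ c₂) {g : Y}
    (hg : ∃ x : Y, ∃ vP ∈ VNJ cs h X J, ∃ vL ∈ UNJ cs h X J, ∃ uL ∈ UJ cs h X J, ∃ uP ∈ VJ cs h X J,
      Q vL uL ∧ x * g * x⁻¹ = vP * vL * (uL * uP)) :
    ∃ c₁ c₂ x y : Y, g = (x * c₁ * x⁻¹) * (y * c₂ * y⁻¹) ∧ P c₁ c₂ := by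
  obtain ⟨x, vP, hvP, vL, hvL, uL, huL, uP, huP, hQ, e⟩ := hg
  obtain ⟨c₁, c₂, hc, h1, h2, hP⟩ := hb vL hvL uL huL hQ
  obtain ⟨a, b, e1⟩ := step R hvP huP e hc h1 h2
  refine ⟨c₁, c₂, x⁻¹ * a, x⁻¹ * b, ?_, hP⟩
  calc g = x⁻¹ * (x * g * x⁻¹) * x := by group
    _ = _ := by rw [e1]; group

variable {F : I → Type*} [∀ i, Field (F i)] {s : ∀ i, Matrix.SpecialLinearGroup (Fin 2) (F i) →* Y}

omit R in
/-- every element outside the core of `B` is conjugate to an element of `V_J⁻ U_J⁻ U_J V_J` -/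
theorem gaussJ [Finite W] (R : RGD cs h p T n X) (hG : G1 cs h X = ⊤) (C : Coord X F s)
    (hconn : ∀ J : Set I, J.Nonempty → J ≠ Set.univ → ∃ a ∈ J, ∃ b, b ∉ J ∧ M a b ≠ 2) (J : Set I) {g : Y}
    (hg : g ∉ (RGD.B cs h T X).normalCore ∨ g = 1) :
    ∃ x : Y, ∃ vP ∈ VNJ cs h X J, ∃ vL ∈ UNJ cs h X J, ∃ uL ∈ UJ cs h X J, ∃ uP ∈ VJ cs h X J,
      x * g * x⁻¹ = vP * vL * (uL * uP) := by
  rcases hg with hg | rfl
  · obtain ⟨x, v, hv, u, hu, e⟩ := gauss R hG C hconn hg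
    obtain ⟨vP, hvP, vL, hvL, rfl⟩ := exists_UNJ R (J := J) hv
    obtain ⟨uL, huL, uP, huP, rfl⟩ := (mem_U_iff R (J := J)).1 hu
    exact ⟨x, vP, hvP, vL, hvL, uL, huL, uP, huP, e⟩
  · exact ⟨1, 1, one_mem _, 1, one_mem _, 1, one_mem _, 1, one_mem _, by group⟩

omit R in
/-- **Two classes** -/
theorem two_class [Finite W] [Finite Y] (R : RGD cs h p T n X) (hG : G1 cs h X = ⊤) (C : Coord X F s)
    (hconn : ∀ J : Set I, J.Nonempty → J ≠ Set.univ → ∃ a ∈ J, ∃ b, b ∉ J ∧ M a b ≠ 2)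
    {J : Set I} {P : Y → Y → Prop}
    (hb : ∀ v ∈ UNJ cs h X J, ∀ u ∈ UJ cs h X J, ∃ c₁ c₂, v * u = c₁ * c₂ ∧ Neg cs h T X J c₁ ∧
      Pos cs h T X J c₂ ∧ P c₁ c₂) {g : Y} (hg : g ∉ (RGD.B cs h T X).normalCore ∨ g = 1) :
    ∃ c₁ c₂ x y : Y, g = (x * c₁ * x⁻¹) * (y * c₂ * y⁻¹) ∧ P c₁ c₂ := by
  refine two_aux R (Q := fun _ _ => True) (fun v hv u hu _ => hb v hv u hu) ?_
  obtain ⟨x, vP, hvP, vL, hvL, uL, huL, uP, huP, e⟩ := gaussJ R hG C hconn J hg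
  exact ⟨x, vP, hvP, vL, hvL, uL, huL, uP, huP, trivial, e⟩

omit R in
/-- a product of a conjugate of `c₁` and a conjugate of `c₂`, `c₂` conjugate to `c₁⁻¹`, is a commutator -/
theorem comm_of {g c₁ c₂ x y k : Y} (hg : g = (x * c₁ * x⁻¹) * (y * c₂ * y⁻¹)) (hk : k * c₁ * k⁻¹ = c₂⁻¹) :
    ∃ a b : Y, g = a * b * a⁻¹ * b⁻¹ := by
  have h2 : c₂ = (k * c₁ * k⁻¹)⁻¹ := by rw [hk, inv_inv]
  refine ⟨x * c₁ * x⁻¹, y * k * x⁻¹, ?_⟩
  rw [hg, h2]; group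

omit R in
/-- **Ore form.** -/
theorem ore [Finite W] [Finite Y] (R : RGD cs h p T n X) (hG : G1 cs h X = ⊤) (C : Coord X F s)
    (hconn : ∀ J : Set I, J.Nonempty → J ≠ Set.univ → ∃ a ∈ J, ∃ b, b ∉ J ∧ M a b ≠ 2)
    {J : Set I}
    (hb : ∀ v ∈ UNJ cs h X J, ∀ u ∈ UJ cs h X J, ∃ c₁ c₂, v * u = c₁ * c₂ ∧ Neg cs h T X J c₁ ∧
      Pos cs h T X J c₂ ∧ ∃ k, k * c₁ * k⁻¹ = c₂⁻¹) {g : Y} (hg : g ∉ (RGD.B cs h T X).normalCore ∨ g = 1) :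
    ∃ a b : Y, g = a * b * a⁻¹ * b⁻¹ := by
  obtain ⟨c₁, c₂, x, y, e, k, hk⟩ := two_class R hG C hconn hb hg
  exact comm_of e hk

/-! ### The side condition -/

omit R in
/-- both components in the root groups of `±k` trivial, or both nontrivial -/
def Parity (cs : CoxeterSystem M W) (h : IsCartan M A) (X : (I → ℤ) → Subgroup Y) (k : I) (v u : Y) : Prop :=
  v ∈ VNJ cs h X {k} ↔ u ∈ VJ cs h X {k}

omit R in
theorem VJ_anti {J K : Set I} (hJK : J ⊆ K) : VJ cs h X K ≤ VJ cs h X J :=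
  RGD.Sup_le fun _ hx => RGD.le_Sup (S := NotJ cs h J)
    ⟨hx.1, hx.2.1, hx.2.2.imp fun _ hk => ⟨fun h => hk.1 (hJK h), hk.2⟩⟩

omit R in
theorem VNJ_anti {J K : Set I} (hJK : J ⊆ K) : VNJ cs h X K ≤ VNJ cs h X J :=
  RGD.Sup_le fun x hx => RGD.le_Sup (S := NotNJ cs h J) (show -x ∈ NotJ cs h J from
    ⟨hx.1, hx.2.1, hx.2.2.imp fun _ hk => ⟨fun h => hk.1 (hJK h), hk.2⟩⟩)

omit R in
/-- **Gauss decomposition with the side condition**: `K` is a set of nodes for which the side condition at `k ∈ K` can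
be reached by conjugation inside the Levi subgroup of `K`. -/
theorem gauss_par [Finite W] (R : RGD cs h p T n X) (hG : G1 cs h X = ⊤) (C : Coord X F s)
    (hconn : ∀ J : Set I, J.Nonempty → J ≠ Set.univ → ∃ a ∈ J, ∃ b, b ∉ J ∧ M a b ≠ 2) {J K : Set I} {k : I}
    (hkJ : k ∈ J) (hkK : k ∈ K)
    (hK : ∀ v ∈ UNJ cs h X K, ∀ u ∈ UJ cs h X K, ∃ y ∈ LJ cs h T X K, ∃ v' ∈ UNJ cs h X K, ∃ u' ∈ UJ cs h X K,
      y * (v * u) * y⁻¹ = v' * u' ∧ Parity cs h X k v' u') {g : Y}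
    (hg : g ∉ (RGD.B cs h T X).normalCore ∨ g = 1) :
    ∃ x : Y, ∃ vP ∈ VNJ cs h X J, ∃ vL ∈ UNJ cs h X J, ∃ uL ∈ UJ cs h X J, ∃ uP ∈ VJ cs h X J,
      Parity cs h X k vL uL ∧ x * g * x⁻¹ = vP * vL * (uL * uP) := by
  have hJ1 : ({k} : Set I) ⊆ J := Set.singleton_subset_iff.2 hkJ
  have hK1 : ({k} : Set I) ⊆ K := Set.singleton_subset_iff.2 hkK
  obtain ⟨x, vP, hvP, vL, hvL, uL, huL, uP, huP, e⟩ := gaussJ R hG C hconn K hg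
  obtain ⟨y, hy, v', hv', u', hu', e1, hpar⟩ := hK vL hvL uL huL
  -- the new decomposition
  have hP1 : y * vP * y⁻¹ ∈ VNJ cs h X K :=
    (Subgroup.mem_normalizer_iff.1 (LJ_le_normalizer_VNJ R K hy) vP).1 hvP
  have hP2 : y * uP * y⁻¹ ∈ VJ cs h X K :=
    (Subgroup.mem_normalizer_iff.1 (LJ_le_normalizer_VJ R K hy) uP).1 huP
  have hv : y * vP * y⁻¹ * v' ∈ UN cs h X := by
    refine mul_mem (VNJ_le_UN K hP1) ?_
    exact (RGD.Sup_le fun z hz => RGD.le_Sup (S := {x | IsRoot cs h x ∧ x ≤ 0}) ⟨by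
      have := hz.1.neg; rwa [neg_neg] at this, by have := hz.2.1; exact neg_nonneg.1 this⟩ : UNJ cs h X K ≤ UN cs h X) hv'
  have hu : u' * (y * uP * y⁻¹) ∈ RGD.Sup X (RGD.Pos cs h) := (mem_U_iff R (J := K)).2 ⟨u', hu', _, hP2, rfl⟩
  have e2 : (y * x) * g * (y * x)⁻¹ = (y * vP * y⁻¹ * v') * (u' * (y * uP * y⁻¹)) := by
    calc (y * x) * g * (y * x)⁻¹ = y * (x * g * x⁻¹) * y⁻¹ := by group
      _ = (y * vP * y⁻¹) * (y * (vL * uL) * y⁻¹) * (y * uP * y⁻¹) := by rw [e]; group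
      _ = _ := by rw [e1]; group
  have hpar' : Parity cs h X k (y * vP * y⁻¹ * v') (u' * (y * uP * y⁻¹)) := by
    unfold Parity at hpar ⊢
    rw [Subgroup.mul_mem_cancel_left _ (VNJ_anti hK1 hP1), Subgroup.mul_mem_cancel_right _ (VJ_anti hK1 hP2)]
    exact hpar
  -- with respect to `J`
  obtain ⟨a, ha, b, hb, e3⟩ := exists_UNJ R (J := J) hv
  obtain ⟨c, hc, d, hd, e4⟩ := (mem_U_iff R (J := J)).1 hu
  refine ⟨y * x, a, ha, b, hb, c, hc, d, hd, ?_, by rw [e2, e3, e4]⟩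
  rw [e3, e4] at hpar'
  unfold Parity at hpar' ⊢
  rwa [Subgroup.mul_mem_cancel_left _ (VNJ_anti hJ1 ha), Subgroup.mul_mem_cancel_right _ (VJ_anti hJ1 hd)] at hpar'

omit R in
/-- **Ore form with the side condition.** -/
theorem ore_par [Finite W] [Finite Y] (R : RGD cs h p T n X) (hG : G1 cs h X = ⊤) (C : Coord X F s)
    (hconn : ∀ J : Set I, J.Nonempty → J ≠ Set.univ → ∃ a ∈ J, ∃ b, b ∉ J ∧ M a b ≠ 2) {J K : Set I} {k : I}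
    (hkJ : k ∈ J) (hkK : k ∈ K)
    (hK : ∀ v ∈ UNJ cs h X K, ∀ u ∈ UJ cs h X K, ∃ y ∈ LJ cs h T X K, ∃ v' ∈ UNJ cs h X K, ∃ u' ∈ UJ cs h X K,
      y * (v * u) * y⁻¹ = v' * u' ∧ Parity cs h X k v' u')
    (hb : ∀ v ∈ UNJ cs h X J, ∀ u ∈ UJ cs h X J, Parity cs h X k v u → ∃ c₁ c₂, v * u = c₁ * c₂ ∧
      Neg cs h T X J c₁ ∧ Pos cs h T X J c₂ ∧ ∃ k, k * c₁ * k⁻¹ = c₂⁻¹) {g : Y}
    (hg : g ∉ (RGD.B cs h T X).normalCore ∨ g = 1) :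
    ∃ a b : Y, g = a * b * a⁻¹ * b⁻¹ := by
  obtain ⟨c₁, c₂, x, y, e, k, hk⟩ := two_aux R hb (gauss_par R hG C hconn hkJ hkK hK hg)
  exact comm_of e hk

end

/-! ### One block of type `A` -/

open Cfsg.Agent.H162.GaussSL

/-- one block: `φ : SL_n(K) → L_J` with the unipotent groups of `L_J` in its image, and an element `s₀` of `L_J` acting
on the block as `d ∈ GL_n(K)` -/
structure Blk (cs : CoxeterSystem M W) (h : IsCartan M A) (T : Subgroup Y) (X : (I → ℤ) → Subgroup Y) (J : Set I)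
    {K : Type*} [Field K] {m : ℕ} (φ : Matrix.SpecialLinearGroup (Fin m) K →* Y) (s₀ : Y)
    (d : GL (Fin m) K) : Prop where
  mem : s₀ ∈ LJ cs h T X J
  act : ∀ A, s₀ * φ A * s₀⁻¹ = φ (gc d A)
  range : ∀ A, φ A ∈ LJ cs h T X J
  up : ∀ r ∈ PosJ cs h J, X r ≤ (UT m K).map φ
  lo : ∀ r ∈ PosJ cs h J, X (-r) ≤ (LT m K).map φ

theorem Blk.exists_up {J : Set I} {K : Type*} [Field K] {m : ℕ} {φ : Matrix.SpecialLinearGroup (Fin m) K →* Y}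
    {s₀ : Y} {d : GL (Fin m) K} (D : Blk cs h T X J φ s₀ d) {u : Y} (hu : u ∈ UJ cs h X J) :
    ∃ U ∈ UT m K, φ U = u := by
  have h1 : UJ cs h X J ≤ (UT m K).map φ := RGD.Sup_le fun r hr => D.up r hr
  obtain ⟨U, hU, e⟩ := h1 hu
  exact ⟨U, hU, e⟩

theorem Blk.exists_lo {J : Set I} {K : Type*} [Field K] {m : ℕ} {φ : Matrix.SpecialLinearGroup (Fin m) K →* Y}
    {s₀ : Y} {d : GL (Fin m) K} (D : Blk cs h T X J φ s₀ d) {v : Y} (hv : v ∈ UNJ cs h X J) :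
    ∃ L ∈ LT m K, φ L = v := by
  have h1 : UNJ cs h X J ≤ (LT m K).map φ := RGD.Sup_le fun r hr => by
    have := D.lo (-r) hr
    rwa [neg_neg] at this
  obtain ⟨L, hL, e⟩ := h1 hv
  exact ⟨L, hL, e⟩

section oneblock

variable {J : Set I} {K : Type*} [Field K] {m : ℕ} {φ : Matrix.SpecialLinearGroup (Fin m) K →* Y}
    {s₀ : Y} {d : GL (Fin m) K} (D : Blk cs h T X J φ s₀ d)

include D

/-- the conjugate of `s₀ φ(A)` -/
theorem Blk.conj (g B : Matrix.SpecialLinearGroup (Fin m) K) :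
    φ g * (s₀ * φ B) * (φ g)⁻¹ = s₀ * φ (gc d⁻¹ g * B * g⁻¹) := by
  have h1 := D.act (gc d⁻¹ g)
  rw [gc_gc, mul_inv_cancel, gc_one] at h1
  rw [map_mul, map_mul, map_inv, ← h1]
  group

/-- `s₀ φ(B) (s₀ φ(B'))⁻¹ = φ(M M'⁻¹)`, `M = d B`, `M' = d B'` -/
theorem Blk.div {A B B' : Matrix.SpecialLinearGroup (Fin m) K}
    (e : (A : GL (Fin m) K) = (d * (B : GL (Fin m) K)) * (d * (B' : GL (Fin m) K))⁻¹) :
    φ A = (s₀ * φ B) * (s₀ * φ B')⁻¹ := by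
  have h1 := D.act (B * B'⁻¹)
  have h2 : gc d (B * B'⁻¹) = A := by
    apply coe_inj
    rw [coe_gc, e, map_mul, map_inv]
    group
  rw [h2, map_mul, map_inv] at h1
  rw [← h1]; group

/-- the product lemma in the block gives the product in `Y` -/
theorem Blk.prod {X₀ A g₁ g₂ : Matrix.SpecialLinearGroup (Fin m) K}
    (e : (A : GL (Fin m) K) = ((g₁ : GL (Fin m) K) * (d * (X₀ : GL (Fin m) K)) * (g₁ : GL (Fin m) K)⁻¹) *
      ((g₂ : GL (Fin m) K) * (d * (X₀ : GL (Fin m) K)) * (g₂ : GL (Fin m) K)⁻¹)⁻¹) :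
    φ A = (φ g₁ * (s₀ * φ X₀) * (φ g₁)⁻¹) * (φ g₂ * (s₀ * φ X₀) * (φ g₂)⁻¹)⁻¹ := by
  rw [D.conj, D.conj]
  refine D.div ?_
  rw [e]
  congr 1
  · rw [map_mul, map_mul, coe_gc, map_inv]
    group
  · congr 1
    rw [map_mul, map_mul, coe_gc, map_inv]
    group

end oneblock

section

variable {F : I → Type*} [∀ i, Field (F i)] {s : ∀ i, Matrix.SpecialLinearGroup (Fin 2) (F i) →* Y}

/-- **Ore's theorem from one block.** `c₀ = s₀ φ(X₀)` has no fixed points on the unipotent radicals, and every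
`L U` is `(g₁ M₀ g₁⁻¹) (g₂ M₀ g₂⁻¹)⁻¹`, `M₀ = d X₀`. -/
theorem ore_blk [Finite W] [Finite Y] (R : RGD cs h p T n X) (hG : G1 cs h X = ⊤) (C : Coord X F s)
    (hconn : ∀ J : Set I, J.Nonempty → J ≠ Set.univ → ∃ a ∈ J, ∃ b, b ∉ J ∧ M a b ≠ 2) {J : Set I}
    {K : Type*} [Field K] {m : ℕ} {φ : Matrix.SpecialLinearGroup (Fin m) K →* Y}
    {s₀ : Y} {d : GL (Fin m) K} (D : Blk cs h T X J φ s₀ d) (X₀ : Matrix.SpecialLinearGroup (Fin m) K)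
    (hprod : ∀ L ∈ LT m K, ∀ U ∈ UT m K, ∃ g₁ g₂ : Matrix.SpecialLinearGroup (Fin m) K,
      ((L * U : Matrix.SpecialLinearGroup (Fin m) K) : GL (Fin m) K) =
        ((g₁ : GL (Fin m) K) * (d * (X₀ : GL (Fin m) K)) * (g₁ : GL (Fin m) K)⁻¹) *
        ((g₂ : GL (Fin m) K) * (d * (X₀ : GL (Fin m) K)) * (g₂ : GL (Fin m) K)⁻¹)⁻¹)
    (hP : ∀ x ∈ VJ cs h X J, (s₀ * φ X₀) * x * (s₀ * φ X₀)⁻¹ = x → x = 1)
    (hN : ∀ x ∈ VNJ cs h X J, (s₀ * φ X₀) * x * (s₀ * φ X₀)⁻¹ = x → x = 1) {g : Y}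
    (hg : g ∉ (RGD.B cs h T X).normalCore ∨ g = 1) :
    ∃ a b : Y, g = a * b * a⁻¹ * b⁻¹ := by
  have hm : s₀ * φ X₀ ∈ LJ cs h T X J := mul_mem D.mem (D.range X₀)
  refine ore R hG C hconn (J := J) (fun v hv u hu => ?_) hg
  obtain ⟨L, hL, rfl⟩ := D.exists_lo hv
  obtain ⟨U, hU, rfl⟩ := D.exists_up hu
  obtain ⟨g₁, g₂, e⟩ := hprod L hL U hU
  refine ⟨_, _, by rw [← map_mul]; exact D.prod e, Neg.conj R ⟨hm, hN⟩ (D.range g₁),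
    (Pos.conj R ⟨hm, hP⟩ (D.range g₂)).inv, φ g₂ * (φ g₁)⁻¹, ?_⟩
  rw [inv_inv]
  group

/-- **Ore's theorem from one block, real class.** `c₀ = φ(X₀)` is conjugate to its inverse; every `L U` is
`(g₁ X₀ g₁⁻¹) (g₂ X₀ g₂⁻¹)` or `(g₁ X₀ g₁⁻¹) (g₂ X₀ g₂⁻¹)⁻¹`. -/
theorem ore_real [Finite W] [Finite Y] (R : RGD cs h p T n X) (hG : G1 cs h X = ⊤) (C : Coord X F s)
    (hconn : ∀ J : Set I, J.Nonempty → J ≠ Set.univ → ∃ a ∈ J, ∃ b, b ∉ J ∧ M a b ≠ 2) {J : Set I}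
    {K : Type*} [Field K] {m : ℕ} {φ : Matrix.SpecialLinearGroup (Fin m) K →* Y}
    (D : Blk cs h T X J φ 1 1) (X₀ : Matrix.SpecialLinearGroup (Fin m) K)
    (hprod : ∀ L ∈ LT m K, ∀ U ∈ UT m K, ∃ g₁ g₂ : Matrix.SpecialLinearGroup (Fin m) K,
      L * U = (g₁ * X₀ * g₁⁻¹) * (g₂ * X₀ * g₂⁻¹) ∨ L * U = (g₁ * X₀ * g₁⁻¹) * (g₂ * X₀ * g₂⁻¹)⁻¹)
    (hreal : ∃ k : Y, k * φ X₀ * k⁻¹ = (φ X₀)⁻¹)
    (hP : ∀ x ∈ VJ cs h X J, φ X₀ * x * (φ X₀)⁻¹ = x → x = 1)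
    (hN : ∀ x ∈ VNJ cs h X J, φ X₀ * x * (φ X₀)⁻¹ = x → x = 1) {g : Y}
    (hg : g ∉ (RGD.B cs h T X).normalCore ∨ g = 1) :
    ∃ a b : Y, g = a * b * a⁻¹ * b⁻¹ := by
  have hm : φ X₀ ∈ LJ cs h T X J := D.range X₀
  obtain ⟨k, hk⟩ := hreal
  refine ore R hG C hconn (J := J) (fun v hv u hu => ?_) hg
  obtain ⟨L, hL, rfl⟩ := D.exists_lo hv
  obtain ⟨U, hU, rfl⟩ := D.exists_up hu
  obtain ⟨g₁, g₂, e | e⟩ := hprod L hL U hU
  · refine ⟨φ g₁ * φ X₀ * (φ g₁)⁻¹, φ g₂ * φ X₀ * (φ g₂)⁻¹, ?_, Neg.conj R ⟨hm, hN⟩ (D.range g₁),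
      Pos.conj R ⟨hm, hP⟩ (D.range g₂), φ g₂ * k * (φ g₁)⁻¹, ?_⟩
    · rw [← map_mul, e]
      simp only [map_mul, map_inv]
    · calc φ g₂ * k * (φ g₁)⁻¹ * (φ g₁ * φ X₀ * (φ g₁)⁻¹) * (φ g₂ * k * (φ g₁)⁻¹)⁻¹
          = φ g₂ * (k * φ X₀ * k⁻¹) * (φ g₂)⁻¹ := by group
        _ = _ := by rw [hk]; group
  · refine ⟨φ g₁ * φ X₀ * (φ g₁)⁻¹, (φ g₂ * φ X₀ * (φ g₂)⁻¹)⁻¹, ?_, Neg.conj R ⟨hm, hN⟩ (D.range g₁),
      (Pos.conj R ⟨hm, hP⟩ (D.range g₂)).inv, φ g₂ * (φ g₁)⁻¹, ?_⟩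
    · rw [← map_mul, e]
      simp only [map_mul, map_inv]
    · rw [inv_inv]; group

end

end Cfsg.Agent.H584.Ore.Engine
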