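import Cfsg.Agent.H584.Ore.Engine

/-!
# The side condition at several nodes; blocks given by an arbitrary group (S2443, S4171: `E₆(2)`, `F₄(2)`)

* `gauss_parS` : Gauss decomposition with the side condition `Parity k` for all `k ∈ S`.
* `AB` : a homomorphism `Φ : G → L_J` with subgroups `U`, `L` of `G` covering `U_J`, `U_J⁻`.
* `Crd` : the coordinate at the node `k` in terms of `G`; `Crd.iff`.
* `square_par` : the square theorem with the side condition.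
-/

set_option autoImplicit false
set_option linter.unusedSectionVars false

namespace Cfsg.Agent.H584.Ore.Par

open CoxeterSystem Cfsg.Agent.ChevalleyStructure.CoxeterGeom Cfsg.Agent.Tits.Roots Cfsg.Agent.Tits.Core
  Cfsg.Agent.Nodes.Reps
  Cfsg.Agent.Nodes.BNOf Cfsg.Agent.Nodes.StabComb
  Cfsg.Agent.Nodes.RGDLib Cfsg.Agent.Nodes.Bruhat Cfsg.Agent.Nodes.OppDec Cfsg.Agent.Nodes.LeviDec
  Cfsg.Agent.OddHalf.NI.Mult
  Cfsg.Agent.H162.GaussDec Cfsg.Agent.H162.GaussLevi Cfsg.Agent.H584.Ore.Engine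

variable {I W Y : Type*} [Fintype I] [DecidableEq I] [Group W] [Group Y] {M : CoxeterMatrix I}
  {cs : CoxeterSystem M W} {A : I → I → ℤ} {h : IsCartan M A} {p : ℕ} {T : Subgroup Y} {n : I → Y}
  {X : (I → ℤ) → Subgroup Y}

section

variable {F : I → Type*} [∀ i, Field (F i)] {s : ∀ i, Matrix.SpecialLinearGroup (Fin 2) (F i) →* Y}

/-- **Gauss decomposition with the side condition at the nodes of `S`.** -/
theorem gauss_parS [Finite W] (R : RGD cs h p T n X) (hG : G1 cs h X = ⊤) (C : Coord X F s)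
    (hconn : ∀ J : Set I, J.Nonempty → J ≠ Set.univ → ∃ a ∈ J, ∃ b, b ∉ J ∧ M a b ≠ 2) {J K S : Set I}
    (hSJ : S ⊆ J) (hSK : S ⊆ K)
    (hK : ∀ v ∈ UNJ cs h X K, ∀ u ∈ UJ cs h X K, ∃ y ∈ LJ cs h T X K, ∃ v' ∈ UNJ cs h X K, ∃ u' ∈ UJ cs h X K,
      y * (v * u) * y⁻¹ = v' * u' ∧ ∀ k ∈ S, Parity cs h X k v' u') {g : Y}
    (hg : g ∉ (RGD.B cs h T X).normalCore ∨ g = 1) :
    ∃ x : Y, ∃ vP ∈ VNJ cs h X J, ∃ vL ∈ UNJ cs h X J, ∃ uL ∈ UJ cs h X J, ∃ uP ∈ VJ cs h X J,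
      (∀ k ∈ S, Parity cs h X k vL uL) ∧ x * g * x⁻¹ = vP * vL * (uL * uP) := by
  obtain ⟨x, vP, hvP, vL, hvL, uL, huL, uP, huP, e⟩ := gaussJ R hG C hconn K hg
  obtain ⟨y, hy, v', hv', u', hu', e1, hpar⟩ := hK vL hvL uL huL
  have hP1 : y * vP * y⁻¹ ∈ VNJ cs h X K :=
    (Subgroup.mem_normalizer_iff.1 (LJ_le_normalizer_VNJ R K hy) vP).1 hvP
  have hP2 : y * uP * y⁻¹ ∈ VJ cs h X K :=
    (Subgroup.mem_normalizer_iff.1 (LJ_le_normalizer_VJ R K hy) uP).1 huP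
  have hv : y * vP * y⁻¹ * v' ∈ UN cs h X := by
    refine mul_mem (VNJ_le_UN K hP1) ?_
    exact (RGD.Sup_le fun z hz => RGD.le_Sup (S := {x | IsRoot cs h x ∧ x ≤ 0}) ⟨by
      have := hz.1.neg; rwa [neg_neg] at this, by have := hz.2.1; exact neg_nonneg.1 this⟩ : UNJ cs h X K ≤ UN cs h X) hv'
  have hu : u' * (y * uP * y⁻¹) ∈ RGD.Sup X (RGD.Pos cs h) := (mem_U_iff R (J := K)).2 ⟨u', hu', _, hP2, rfl⟩
  have e2 : (y * x) * g * (y * x)⁻¹ = (y * vP * y⁻¹ * v') * (u' * (y * uP * y⁻¹)) := by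
    calc (y * x) * g * (y * x)⁻¹ = y * (x * g * x⁻¹) * y⁻¹ := by group
      _ = (y * vP * y⁻¹) * (y * (vL * uL) * y⁻¹) * (y * uP * y⁻¹) := by rw [e]; group
      _ = _ := by rw [e1]; group
  have hpar' : ∀ k ∈ S, Parity cs h X k (y * vP * y⁻¹ * v') (u' * (y * uP * y⁻¹)) := by
    intro k hk
    have hK1 : ({k} : Set I) ⊆ K := Set.singleton_subset_iff.2 (hSK hk)
    have h1 := hpar k hk
    unfold Parity at h1 ⊢
    rw [Subgroup.mul_mem_cancel_left _ (VNJ_anti hK1 hP1), Subgroup.mul_mem_cancel_right _ (VJ_anti hK1 hP2)]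
    exact h1
  obtain ⟨a, ha, b, hb, e3⟩ := exists_UNJ R (J := J) hv
  obtain ⟨c, hc, d, hd, e4⟩ := (mem_U_iff R (J := J)).1 hu
  refine ⟨y * x, a, ha, b, hb, c, hc, d, hd, ?_, by rw [e2, e3, e4]⟩
  intro k hk
  have hJ1 : ({k} : Set I) ⊆ J := Set.singleton_subset_iff.2 (hSJ hk)
  have h1 := hpar' k hk
  rw [e3, e4] at h1
  unfold Parity at h1 ⊢
  rwa [Subgroup.mul_mem_cancel_left _ (VNJ_anti hJ1 ha), Subgroup.mul_mem_cancel_right _ (VJ_anti hJ1 hd)] at h1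

end

/-! ### Blocks -/

/-- a homomorphism onto the semisimple part of the Levi subgroup of `J` -/
structure AB (cs : CoxeterSystem M W) (h : IsCartan M A) (T : Subgroup Y) (X : (I → ℤ) → Subgroup Y) (J : Set I)
    {G : Type*} [Group G] (Φ : G →* Y) (U L : Subgroup G) : Prop where
  range : ∀ A, Φ A ∈ LJ cs h T X J
  up : ∀ r ∈ PosJ cs h J, X r ≤ U.map Φ
  lo : ∀ r ∈ PosJ cs h J, X (-r) ≤ L.map Φ
  up' : U.map Φ ≤ UJ cs h X J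
  lo' : L.map Φ ≤ UNJ cs h X J

section

variable {J : Set I} {G : Type*} [Group G] {Φ : G →* Y} {U L : Subgroup G}

theorem AB.exists_up (D : AB cs h T X J Φ U L) {u : Y} (hu : u ∈ UJ cs h X J) : ∃ B ∈ U, Φ B = u := by
  have h1 : UJ cs h X J ≤ U.map Φ := RGD.Sup_le fun r hr => D.up r hr
  exact h1 hu

theorem AB.exists_lo (D : AB cs h T X J Φ U L) {v : Y} (hv : v ∈ UNJ cs h X J) : ∃ B ∈ L, Φ B = v := by
  have h1 : UNJ cs h X J ≤ L.map Φ := RGD.Sup_le fun r hr => by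
    have := D.lo (-r) hr
    rwa [neg_neg] at this
  exact h1 hv

end

/-- the coordinate at the node `k`: `Z U₀ ↔` the coordinate is trivial -/
structure Crd (cs : CoxeterSystem M W) (h : IsCartan M A) (X : (I → ℤ) → Subgroup Y) (k : I)
    {G : Type*} [Group G] (Φ : G →* Y) (U L : Subgroup G) (ZU ZL : G → Prop) : Prop where
  triv : ∀ B ∈ U, ZU B → Φ B ∈ VJ cs h X {k}
  ntriv : ∀ B ∈ U, ¬ ZU B → ∃ t, Φ t ∈ X (sr k) ∧ Φ t ≠ 1 ∧ Φ (t⁻¹ * B) ∈ VJ cs h X {k}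
  ltriv : ∀ B ∈ L, ZL B → Φ B ∈ VNJ cs h X {k}
  lntriv : ∀ B ∈ L, ¬ ZL B → ∃ t, Φ t ∈ X (-sr k) ∧ Φ t ≠ 1 ∧ Φ (t⁻¹ * B) ∈ VNJ cs h X {k}

section

variable (R : RGD cs h p T n X) {G : Type*} [Group G] {Φ : G →* Y} {U L : Subgroup G} {ZU ZL : G → Prop} {k : I}

include R

theorem X_inf_VJ [Finite W] {x : Y} (h1 : x ∈ X (sr k)) (h2 : x ∈ VJ cs h X {k}) : x = 1 := by
  have h3 : x ∈ UJ cs h X {k} := by
    refine RGD.le_Sup (S := PosJ cs h {k}) ⟨isRoot_sr cs h k, ?_, fun j hj => ?_⟩ h1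
    · intro j
      by_cases hj : j = k
      · subst hj; rw [sr_self]; exact zero_le_one
      · rw [sr_ne hj]; exact le_refl _
    · exact sr_ne hj
  have h4 : x ∈ UJ cs h X {k} ⊓ VJ cs h X {k} := ⟨h3, h2⟩
  rw [UJ_inf_VJ R {k}] at h4
  exact h4

theorem X_inf_VNJ [Finite W] {x : Y} (h1 : x ∈ X (-sr k)) (h2 : x ∈ VNJ cs h X {k}) : x = 1 := by
  have h3 : x ∈ LJ cs h T X {k} := by
    refine X_le_LJ (T := T) (X := X) (J := {k}) ⟨(isRoot_sr cs h k).neg, fun j hj => ?_⟩ h1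
    rw [Pi.neg_apply, sr_ne hj, neg_zero]
  have h4 : x ∈ LJ cs h T X {k} ⊓ VNJ cs h X {k} := ⟨h3, h2⟩
  rw [LJ_inf_VNJ R {k}] at h4
  exact h4

theorem Crd.iffU [Finite W] (C : Crd cs h X k Φ U L ZU ZL) {B : G} (hB : B ∈ U) : Φ B ∈ VJ cs h X {k} ↔ ZU B := by
  refine ⟨fun h1 => ?_, C.triv B hB⟩
  by_contra h2
  obtain ⟨t, ht, ht1, h3⟩ := C.ntriv B hB h2
  refine ht1 (X_inf_VJ R ht ?_)
  have h4 : Φ t = Φ B * (Φ (t⁻¹ * B))⁻¹ := by rw [map_mul, map_inv]; group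
  rw [h4]
  exact mul_mem h1 (inv_mem h3)

theorem Crd.iffL [Finite W] (C : Crd cs h X k Φ U L ZU ZL) {B : G} (hB : B ∈ L) : Φ B ∈ VNJ cs h X {k} ↔ ZL B := by
  refine ⟨fun h1 => ?_, C.ltriv B hB⟩
  by_contra h2
  obtain ⟨t, ht, ht1, h3⟩ := C.lntriv B hB h2
  refine ht1 (X_inf_VNJ R ht ?_)
  have h4 : Φ t = Φ B * (Φ (t⁻¹ * B))⁻¹ := by rw [map_mul, map_inv]; group
  rw [h4]
  exact mul_mem h1 (inv_mem h3)

end

section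

variable {F : I → Type*} [∀ i, Field (F i)] {s : ∀ i, Matrix.SpecialLinearGroup (Fin 2) (F i) →* Y}

/-- **The square theorem with the side condition.** `GJ`, `GK` are the groups of the blocks of `J` and `K`. -/
theorem square_par [Finite W] [Finite Y] (R : RGD cs h p T n X) (hG : G1 cs h X = ⊤) (C : Coord X F s)
    (hconn : ∀ J : Set I, J.Nonempty → J ≠ Set.univ → ∃ a ∈ J, ∃ b, b ∉ J ∧ M a b ≠ 2) {J K S : Set I}
    (hSJ : S ⊆ J) (hSK : S ⊆ K)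
    {GJ GK : Type*} [Group GJ] [Group GK] {ΦJ : GJ →* Y} {ΦK : GK →* Y} {UU LL : Subgroup GJ} {UK LK : Subgroup GK}
    (DJ : AB cs h T X J ΦJ UU LL) (DK : AB cs h T X K ΦK UK LK)
    {ZU ZL : I → GJ → Prop} {ZU' ZL' : I → GK → Prop}
    (CJ : ∀ k ∈ S, Crd cs h X k ΦJ UU LL (ZU k) (ZL k)) (CK : ∀ k ∈ S, Crd cs h X k ΦK UK LK (ZU' k) (ZL' k))
    (hK : ∀ v ∈ LK, ∀ u ∈ UK, ∃ y, ∃ v' ∈ LK, ∃ u' ∈ UK, y * (v * u) * y⁻¹ = v' * u' ∧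
      ∀ k ∈ S, (ZL' k v' ↔ ZU' k u')) {c₀ : GJ}
    (hJ : ∀ v ∈ LL, ∀ u ∈ UU, (∀ k ∈ S, (ZL k v ↔ ZU k u)) → ∃ g h : GJ,
      v * u = (g * c₀ * g⁻¹) * (h * c₀ * h⁻¹) ∨ v * u = (g * c₀ * g⁻¹) * (h * c₀ * h⁻¹)⁻¹)
    (hP : ∀ x ∈ VJ cs h X J, ΦJ c₀ * x * (ΦJ c₀)⁻¹ = x → x = 1)
    (hN : ∀ x ∈ VNJ cs h X J, ΦJ c₀ * x * (ΦJ c₀)⁻¹ = x → x = 1) (hreal : ∃ z, z * ΦJ c₀ * z⁻¹ = (ΦJ c₀)⁻¹)
    {g : Y} (hg : g ∉ (RGD.B cs h T X).normalCore ∨ g = 1) :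
    ∃ x y : Y, g = (x * ΦJ c₀ * x⁻¹) * (y * ΦJ c₀ * y⁻¹) := by
  obtain ⟨z, hz⟩ := hreal
  have hm : ΦJ c₀ ∈ LJ cs h T X J := DJ.range c₀
  have h1 := gauss_parS R hG C hconn hSJ hSK (J := J) (K := K) (S := S) (fun v hv u hu => by
    obtain ⟨v0, hv0, rfl⟩ := DK.exists_lo hv
    obtain ⟨u0, hu0, rfl⟩ := DK.exists_up hu
    obtain ⟨y, v', hv', u', hu', e, hpar⟩ := hK v0 hv0 u0 hu0
    refine ⟨ΦK y, DK.range y, ΦK v', DK.lo' ⟨v', hv', rfl⟩, ΦK u', DK.up' ⟨u', hu', rfl⟩, ?_, fun k hk => ?_⟩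
    · rw [← map_mul, ← map_mul, ← map_inv, ← map_mul, e, map_mul]
    · unfold Parity
      rw [(CK k hk).iffL R hv', (CK k hk).iffU R hu']
      exact hpar k hk) hg
  obtain ⟨c₁, c₂, x, y, e, h2, h3⟩ := two_aux R (J := J) (Q := fun v u => ∀ k ∈ S, Parity cs h X k v u)
    (P := fun c₁ c₂ => (∃ k, c₁ = k * ΦJ c₀ * k⁻¹) ∧ ∃ k, c₂ = k * ΦJ c₀ * k⁻¹) (fun v hv u hu hpar => by
    obtain ⟨v0, hv0, rfl⟩ := DJ.exists_lo hv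
    obtain ⟨u0, hu0, rfl⟩ := DJ.exists_up hu
    obtain ⟨a, b, e | e⟩ := hJ v0 hv0 u0 hu0 (fun k hk => by
      have := hpar k hk
      unfold Parity at this
      rwa [(CJ k hk).iffL R hv0, (CJ k hk).iffU R hu0] at this)
    · refine ⟨ΦJ a * ΦJ c₀ * (ΦJ a)⁻¹, ΦJ b * ΦJ c₀ * (ΦJ b)⁻¹, ?_, Neg.conj R ⟨hm, hN⟩ (DJ.range a),
        Pos.conj R ⟨hm, hP⟩ (DJ.range b), ⟨_, rfl⟩, _, rfl⟩
      rw [← map_mul, e]
      simp only [map_mul, map_inv]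
    · refine ⟨ΦJ a * ΦJ c₀ * (ΦJ a)⁻¹, (ΦJ b * ΦJ c₀ * (ΦJ b)⁻¹)⁻¹, ?_, Neg.conj R ⟨hm, hN⟩ (DJ.range a),
        (Pos.conj R ⟨hm, hP⟩ (DJ.range b)).inv, ⟨_, rfl⟩, ΦJ b * z, ?_⟩
      · rw [← map_mul, e]
        simp only [map_mul, map_inv]
      · have h5 : (ΦJ b * z) * ΦJ c₀ * (ΦJ b * z)⁻¹ = ΦJ b * (z * ΦJ c₀ * z⁻¹) * (ΦJ b)⁻¹ := by group
        rw [h5, hz]; group) h1
  obtain ⟨⟨k₁, rfl⟩, k₂, rfl⟩ := (⟨h2, h3⟩ : (∃ k, c₁ = k * ΦJ c₀ * k⁻¹) ∧ ∃ k, c₂ = k * ΦJ c₀ * k⁻¹)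
  refine ⟨x * k₁, y * k₂, ?_⟩
  rw [e]; group

end

end Cfsg.Agent.H584.Ore.Par
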